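import Cfsg.Agent.Lib.KnownB.TypeM23Unique.Hexa

/-!
In type M(22): the arms of six members with a highest root continue, and the continuation is told
apart by one conjugate.
-/

set_option autoImplicit false
set_option maxRecDepth 100000

namespace CfsgLib.KnownB.TypeM23.Unique

open Cfsg CfsgLib.Classical.Unitary CfsgLib.ThreeTransp CfsgLib.ThreeTransp.USix CfsgLib.Involutions
open CfsgLib.Spor (QField)
open CfsgLib.KnownB.TypeM22 CfsgLib.KnownB.TypeM22.Unique

universe u

/-- The pattern of a lone member, a chain of four, and a root joined to the first of the chain. -/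
def adjA (i j : ℕ) : Bool :=
  [(1, 2), (2, 3), (3, 4), (1, 5)].any fun e =>
    (Nat.beq e.1 i && Nat.beq e.2 j) || (Nat.beq e.1 j && Nat.beq e.2 i)

variable {F : Type} [Field F] {σ : F →+* F} {hF : Nat.card F = 2 ^ 2} {h : UFrob σ 2}
  {G : Type u} [Group G] [Finite G] {D : Set G} {a b : G} {f : Subgroup.closure (nb D a) →* PSU 6 F 2}

/-- Six in the pattern, all commuting with both. -/
structure Arm (D : Set G) (a b : G) (z : Fin 6 → G) : Prop where
  mem : ∀ i, Mem D a b (z i)
  adj : ∀ i j, i ≠ j → (Commute (z i) (z j) ↔ adjA i.val j.val = false)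

/-- A frame for the pattern. -/
theorem arm_frame (P : PMap hF h D a f) (hW : WeakTS D) (e : QField ≃+* F) {z : Fin 6 → G} (A : Arm D a b z) :
    ∃ r s, Hyp σ r s ∧ ∃ k < 4, ∀ i : Fin 6,
      IsPt hF h f (z i) (vq e r s (qvec ([1, 4, 256, 20, 1024, 1280 + k].getD i.val 0))) := by
  have : Finite F := Nat.finite_of_card_ne_zero (by rw [hF]; norm_num)
  choose u hu0 hu using fun i => exists_vec P (A.mem i).1
  have step : ∀ {i j : Fin 6} {v}, IsPt hF h f (z i) v → i ≠ j → adjA i.val j.val = true →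
      ∃ w, IsPt hF h f (z j) w ∧ uh σ v w = 1 := by
    intro i j v pi hij ha
    have h0 : uh σ v (u j) ≠ 0 := fun e0 => by
      rw [(A.adj i j hij).1 ((pi.comm P hW (hu j)).2 e0)] at ha
      exact Bool.noConfusion ha
    refine ⟨uh σ v (u j) • u j, (hu j).smul h0, ?_⟩
    rw [uh_smul_right, mul_comm]
    exact norm_one hF h h0
  have hz : ∀ {i j : Fin 6} {v w}, IsPt hF h f (z i) v → IsPt hF h f (z j) w → i ≠ j → adjA i.val j.val = false →
      uh σ v w = 0 := fun {i j v w} pi pj hij ha => (pi.comm P hW pj).1 ((A.adj i j hij).2 ha)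
  obtain ⟨x, hx⟩ : ∃ x, IsPt hF h f (z 0) x := ⟨_, hu 0⟩
  obtain ⟨c, hc⟩ : ∃ c, IsPt hF h f (z 1) c := ⟨_, hu 1⟩
  obtain ⟨d, hd, ecd⟩ := step (j := 2) hc (by decide) (by decide)
  obtain ⟨v, hv, edh⟩ := step (j := 3) hd (by decide) (by decide)
  obtain ⟨i, hi, ehi⟩ := step (j := 4) hv (by decide) (by decide)
  have hsw : ∀ {v w : V F}, uh σ v w = 1 → uh σ w v = 1 := fun {v w} e0 => by rw [← h.symm, e0, map_one]
  have xc := hz hx hc (by decide) (by decide)
  have xd := hz hx hd (by decide) (by decide)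
  have xv := hz hx hv (by decide) (by decide)
  have xi := hz hx hi (by decide) (by decide)
  have cv := hz hc hv (by decide) (by decide)
  have ci := hz hc hi (by decide) (by decide)
  have di := hz hd hi (by decide) (by decide)
  obtain ⟨r', s', H', hr⟩ := exists_frame_at hF h hx.iso (isPt_ne_zero P hx)
  obtain ⟨w, hw⟩ : ∃ w, w = s' 0 := ⟨_, rfl⟩
  have xw : uh σ x w = 1 := by rw [← hr, hw, H'.rs, if_pos rfl]
  obtain ⟨y, hy⟩ : ∃ y, y = w + uh σ w d • c + uh σ w c • d + uh σ w i • (c + v) + uh σ w (c + v) • i := ⟨_, rfl⟩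
  have t2 : ∀ t : F, t + t = 0 := add_self hF
  have yx : uh σ y x = 1 := by
    simp [hy, uh_add_left, uh_smul_left, hsw xw, h.swap_zero xc, h.swap_zero xd, h.swap_zero xv,
      h.swap_zero xi]
  obtain ⟨l, hl⟩ := iso_shift hF h hx.iso yx
  have y1 : uh σ y c = 0 := by
    simp [hy, uh_add_left, uh_smul_left, hc.iso, hsw ecd, h.swap_zero cv, h.swap_zero ci, t2]
  have y2 : uh σ y d = 0 := by
    simp [hy, uh_add_left, uh_smul_left, hd.iso, ecd, hsw edh, h.swap_zero di, t2]
  have y3 : uh σ y (c + v) = 0 := by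
    simp [hy, uh_add_left, uh_add_right, uh_smul_left, hc.iso, hv.iso, hsw ecd, edh, cv, h.swap_zero cv,
      h.swap_zero ci, hsw ehi, t2]
    linear_combination t2 (uh σ w v) + t2 (uh σ w c)
  have y3' : uh σ y v = 0 := by simpa [uh_add_right, y1] using y3
  have y4 : uh σ y i = 0 := by
    simp [hy, uh_add_left, uh_smul_left, hi.iso, ci, di, ehi, t2]
  have H : Hyp σ ![x, c, c + v] ![y + l • x, d, i] := by
    refine ⟨?_, ?_, ?_⟩
    · intro p q
      fin_cases p <;> fin_cases q <;>
        simp [uh_add_left, uh_add_right, hx.iso, hc.iso, hv.iso, xc, xv, cv, h.swap_zero xc, h.swap_zero xv,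
          h.swap_zero cv]
    · intro p q
      fin_cases p <;> fin_cases q
      · simpa using hl
      all_goals simp [uh_add_left, uh_add_right, uh_smul_left, uh_smul_right, hd.iso, hi.iso, di, xd, xi, y2, y4,
        h.swap_zero y2, h.swap_zero y4, h.swap_zero xd, h.swap_zero xi, h.swap_zero di]
    · intro p q
      fin_cases p <;> fin_cases q <;>
        simp [uh_add_left, uh_add_right, uh_smul_right, hx.iso, hsw yx, h.swap_zero xc, h.swap_zero xv,
          h.swap_zero y1, h.swap_zero y3', ecd, ci, ehi, xd, xi, hsw edh, t2]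
  have q1 : qvec 1 = ![1, 0, 0, 0, 0, 0] := by decide
  have q2 : qvec 4 = ![0, 1, 0, 0, 0, 0] := by decide
  have q3 : qvec 256 = ![0, 0, 0, 0, 1, 0] := by decide
  have q4 : qvec 20 = ![0, 1, 1, 0, 0, 0] := by decide
  have q5 : qvec 1024 = ![0, 0, 0, 0, 0, 1] := by decide
  have p0 : IsPt hF h f (z 0) (vq e ![x, c, c + v] ![y + l • x, d, i] (qvec 1)) :=
    hx.congr (by simp [q1, vq, lin])
  have p1 : IsPt hF h f (z 1) (vq e ![x, c, c + v] ![y + l • x, d, i] (qvec 4)) :=
    hc.congr (by simp [q2, vq, lin])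
  have p2 : IsPt hF h f (z 2) (vq e ![x, c, c + v] ![y + l • x, d, i] (qvec 256)) :=
    hd.congr (by simp [q3, vq, lin])
  have p3 : IsPt hF h f (z 3) (vq e ![x, c, c + v] ![y + l • x, d, i] (qvec 20)) := by
    refine hv.congr ?_
    have htwo : c + c = 0 := funext fun k => t2 (c k)
    simp [q4, vq, lin, ← add_assoc, htwo]
  have p4 : IsPt hF h f (z 4) (vq e ![x, c, c + v] ![y + l • x, d, i] (qvec 1024)) :=
    hi.congr (by simp [q5, vq, lin])
  obtain ⟨n, hn, p5⟩ := locate P hW H (A.mem 5).1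
    (req := [(1, true), (4, false), (256, true), (20, true), (1024, true)]) (L := [1280, 1281, 1282, 1283])
    (by decide +kernel) (by
      intro t ht
      simp only [List.mem_cons, List.not_mem_nil, or_false] at ht
      rcases ht with rfl | rfl | rfl | rfl | rfl
      · exact ⟨_, p0, (A.adj 5 0 (by decide)).trans (by decide)⟩
      · exact ⟨_, p1, (A.adj 5 1 (by decide)).trans (by decide)⟩
      · exact ⟨_, p2, (A.adj 5 2 (by decide)).trans (by decide)⟩
      · exact ⟨_, p3, (A.adj 5 3 (by decide)).trans (by decide)⟩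
      · exact ⟨_, p4, (A.adj 5 4 (by decide)).trans (by decide)⟩)
  obtain ⟨k, hk, rfl⟩ : ∃ k < 4, n = 1280 + k := by
    simp only [List.mem_cons, List.not_mem_nil, or_false] at hn
    exact ⟨n - 1280, by omega, by omega⟩
  refine ⟨_, _, H, k, hk, fun j => ?_⟩
  fin_cases j
  exacts [p0, p1, p2, p3, p4, p5]

theorem four_facts : ([1, 2, 3].all fun k => (four k).all fun c =>
    decide (bform qsig (qvec c) (qvec 256) = 0) && decide (bform qsig (qvec c) (qvec 20) = 0) &&
    decide (bform qsig (qvec c) (qvec 1024) = 0) && !decide (bform qsig (qvec c) (qvec 1) = 0) &&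
    !decide (bform qsig (qvec c) (qvec 4) = 0) && !decide (bform qsig (qvec c) (qvec (mv (1280 + k) 4)) = 0)) = true := by
  decide +kernel

/-- The frame and the parameter, which is not zero. -/
theorem arm_param (S : Setting D) (hP : Maps hF h D) (ha : a ∈ D) (hb : b ∈ D) (hab : ¬ Commute a b)
    (P : PMap hF h D a f) (e : QField ≃+* F) {z : Fin 6 → G} (A : Arm D a b z) :
    ∃ r s, Hyp σ r s ∧ ∃ k ∈ ([1, 2, 3] : List ℕ), (∀ i : Fin 6,
      IsPt hF h f (z i) (vq e r s (qvec ([1, 4, 256, 20, 1024, 1280 + k].getD i.val 0)))) ∧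
      ∀ c ∈ ([1, 4, 256, 20, 1024, 1280 + k] : List ℕ), On hF h f e r s b c := by
  obtain ⟨r, s, H, k, hk, hpt⟩ := arm_frame P S.weak e A
  have hon : ∀ c ∈ ([1, 4, 256, 20, 1024, 1280 + k] : List ℕ), On hF h f e r s b c := by
    intro c hc
    simp only [List.mem_cons, List.not_mem_nil, or_false] at hc
    rcases hc with rfl | rfl | rfl | rfl | rfl | rfl
    exacts [⟨_, hpt 0, (A.mem 0).2⟩, ⟨_, hpt 1, (A.mem 1).2⟩, ⟨_, hpt 2, (A.mem 2).2⟩, ⟨_, hpt 3, (A.mem 3).2⟩,
      ⟨_, hpt 4, (A.mem 4).2⟩, ⟨_, hpt 5, (A.mem 5).2⟩]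
  refine ⟨r, s, H, k, ?_, hpt, hon⟩
  interval_cases k
  · exact search (e := e) S hP ha hb hab P H (fun K l hg _ => Bool.noConfusion hg) treeBZero_ok (sem_mask hon)
  all_goals decide

/-- The continuation of an arm. -/
theorem exists_arm (S : Setting D) (hP : Maps hF h D) (ha : a ∈ D) (hb : b ∈ D) (hab : ¬ Commute a b)
    (P : PMap hF h D a f) (e : QField ≃+* F) {z : Fin 6 → G} (A : Arm D a b z) :
    ∃ x, Mem D a b x ∧ Commute x (z 2) ∧ Commute x (z 3) ∧ Commute x (z 4) ∧ ¬ Commute x (z 0) ∧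
      ¬ Commute x (z 1) ∧ ¬ Commute x (z 5 * z 1 * z 5) := by
  have hW := S.weak
  obtain ⟨r, s, H, k, hk, hpt, hon⟩ := arm_param S hP ha hb hab P e A
  obtain ⟨c, hc, hbc⟩ : ∃ c ∈ four k, On hF h f e r s b c := by
    by_contra hno
    push Not at hno
    simp only [List.mem_cons, List.not_mem_nil, or_false] at hk
    rcases hk with rfl | rfl | rfl
    · exact search (e := e) (Q := False) S hP ha hb hab P H (fun K l hg _ => Bool.noConfusion hg) treeB1_ok
        (sem_masks hon hno)
    · exact search (e := e) (Q := False) S hP ha hb hab P H (fun K l hg _ => Bool.noConfusion hg) treeB2_ok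
        (sem_masks hon hno)
    · exact search (e := e) (Q := False) S hP ha hb hab P H (fun K l hg _ => Bool.noConfusion hg) treeB3_ok
        (sem_masks hon hno)
  obtain ⟨x, hx, hxm⟩ := mem_of_on hbc
  have hf := List.all_eq_true.1 (List.all_eq_true.1 four_facts k hk) c hc
  simp only [Bool.and_eq_true, decide_eq_true_eq, Bool.not_eq_true', decide_eq_false_iff_not] at hf
  obtain ⟨⟨⟨⟨⟨f2, f3⟩, f4⟩, f0⟩, f1⟩, f5⟩ := hf
  exact ⟨x, hxm, (commute_code P hW H hx (hpt 2)).2 f2, (commute_code P hW H hx (hpt 3)).2 f3,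
    (commute_code P hW H hx (hpt 4)).2 f4, fun e0 => f0 ((commute_code P hW H hx (hpt 0)).1 e0),
    fun e0 => f1 ((commute_code P hW H hx (hpt 1)).1 e0),
    fun e0 => f5 ((commute_code P hW H hx (isPt_mv hW H (hpt 5) (hpt 1))).1 e0)⟩

theorem loc_facts : ([1, 2, 3].all fun k =>
    locOK [(1, false), (4, false), (256, true), (1024, true), (mv (1280 + k) 4, false)] (twelve k ++ four k)) = true := by
  decide +kernel

/-- A continuation commutes with the rest of the arm. -/
theorem arm_comm (S : Setting D) (hP : Maps hF h D) (ha : a ∈ D) (hb : b ∈ D) (hab : ¬ Commute a b)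
    (P : PMap hF h D a f) (e : QField ≃+* F) {z : Fin 6 → G} (A : Arm D a b z) {x : G} (hx : Mem D a b x)
    (h2 : Commute x (z 2)) (h4 : Commute x (z 4)) (h0 : ¬ Commute x (z 0)) (h1 : ¬ Commute x (z 1))
    (h5 : ¬ Commute x (z 5 * z 1 * z 5)) : Commute x (z 3) := by
  have hW := S.weak
  obtain ⟨r, s, H, k, hk, hpt, hon⟩ := arm_param S hP ha hb hab P e A
  obtain ⟨c, hc, hxp⟩ := locate P hW H hx.1 (List.all_eq_true.1 loc_facts k hk) (by
    intro t ht
    simp only [List.mem_cons, List.not_mem_nil, or_false] at ht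
    rcases ht with rfl | rfl | rfl | rfl | rfl
    · exact ⟨_, hpt 0, iff_of_false h0 Bool.false_ne_true⟩
    · exact ⟨_, hpt 1, iff_of_false h1 Bool.false_ne_true⟩
    · exact ⟨_, hpt 2, iff_of_true h2 rfl⟩
    · exact ⟨_, hpt 4, iff_of_true h4 rfl⟩
    · exact ⟨_, isPt_mv hW H (hpt 5) (hpt 1), iff_of_false h5 Bool.false_ne_true⟩)
  rcases List.mem_append.1 hc with hc | hc
  · exfalso
    have hout : ∀ c ∈ twelve k, ¬ On hF h f e r s b c := by
      have key : ∀ K l, outOK k K l = true → Sem (On hF h f e r s b) K →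
          ∀ c ∈ twelve k, ¬ On hF h f e r s b c := fun K l hg hK c hc => hK.2 c (List.all_eq_true.1 hg c hc)
      simp only [List.mem_cons, List.not_mem_nil, or_false] at hk
      rcases hk with rfl | rfl | rfl
      · exact search (e := e) S hP ha hb hab P H key treeOff1_ok (sem_mask hon)
      · exact search (e := e) S hP ha hb hab P H key treeOff2_ok (sem_mask hon)
      · exact search (e := e) S hP ha hb hab P H key treeOff3_ok (sem_mask hon)
    exact hout c hc ⟨x, hxp, hx.2⟩
  · have hf := List.all_eq_true.1 (List.all_eq_true.1 four_facts k hk) c hc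
    simp only [Bool.and_eq_true, decide_eq_true_eq, Bool.not_eq_true', decide_eq_false_iff_not] at hf
    exact (commute_code P hW H hxp (hpt 3)).2 hf.1.1.1.1.2

end CfsgLib.KnownB.TypeM23.Unique
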