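import Cfsg.Agent.Lib.KnownB.TypeM23Unique.TreeData
import Cfsg.Agent.Lib.KnownB.TypeM22Unique.Search

/-!
The checks of the case distinctions.
-/

set_option autoImplicit false
set_option maxRecDepth 100000

namespace CfsgLib.KnownB.TypeM23.Unique

open CfsgLib.Spor (QField)
open CfsgLib.KnownB.TypeM22
open CfsgLib.KnownB.TypeM22.Unique (Tree mask)

/-- The edges of the diagram E6 on six places. -/
def adjE (i j : ℕ) : Bool :=
  [(0, 3), (1, 2), (2, 3), (3, 4), (4, 5)].any fun e =>
    (Nat.beq e.1 i && Nat.beq e.2 j) || (Nat.beq e.1 j && Nat.beq e.2 i)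

/-- Six known members in the pattern of E6. -/
def treeOK (K : ℕ × ℕ) (l : List ℕ) : Bool :=
  (List.range 6).all fun i => K.1.testBit (l.getD i 0) && (List.range 6).all fun j => Nat.beq i j ||
    (decide (bform qsig (qvec (l.getD i 0)) (qvec (l.getD j 0)) = 0) == !adjE i j)

/-- No case is left. -/
def noneOK (_ : ℕ × ℕ) (_ : List ℕ) : Bool := false

/-- The candidates for the letter continuing a path, by the parameter of the root. -/
def four : ℕ → List ℕ
  | 1 => [1408, 1410, 1472, 1475]
  | 2 => [1344, 1345, 1472, 1475]
  | _ => [1344, 1345, 1408, 1410]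

/-- The false continuations, by the parameter of the root. -/
def twelve : ℕ → List ℕ
  | 1 => [384, 1856, 1728, 386, 1857, 1731, 448, 1920, 1600, 451, 1922, 1601]
  | 2 => [320, 1984, 1664, 321, 1987, 1666, 448, 1920, 1600, 451, 1922, 1601]
  | _ => [320, 1984, 1664, 321, 1987, 1666, 384, 1856, 1728, 386, 1857, 1731]

/-- The false continuations are known to be outside. -/
def outOK (k : ℕ) (K : ℕ × ℕ) (_ : List ℕ) : Bool := (twelve k).all fun c => K.2.testBit c

theorem treeTree_ok : check treeOK treeTree (mask [1, 1344, 4, 256, 20, 1024], mask [64]) = true := by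
  decide +kernel

theorem treeBZero_ok : check noneOK treeBZero (mask [1, 4, 256, 20, 1024, 1280], 0) = true := by
  decide +kernel

theorem treeB1_ok : check noneOK treeB1 (mask [1, 4, 256, 20, 1024, 1281], mask (four 1)) = true := by
  decide +kernel

theorem treeB2_ok : check noneOK treeB2 (mask [1, 4, 256, 20, 1024, 1282], mask (four 2)) = true := by
  decide +kernel

theorem treeB3_ok : check noneOK treeB3 (mask [1, 4, 256, 20, 1024, 1283], mask (four 3)) = true := by
  decide +kernel

theorem treeOff1_ok : check (outOK 1) treeOff1 (mask [1, 4, 256, 20, 1024, 1281], 0) = true := by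
  decide +kernel

theorem treeOff2_ok : check (outOK 2) treeOff2 (mask [1, 4, 256, 20, 1024, 1282], 0) = true := by
  decide +kernel

theorem treeOff3_ok : check (outOK 3) treeOff3 (mask [1, 4, 256, 20, 1024, 1283], 0) = true := by
  decide +kernel

theorem treeArms_ok : check noneOK treeArms (mask [4, 1344, 256, 20, 1024], mask [5, 1, 17]) = true := by
  decide +kernel

theorem treeSeven_ok : check noneOK treeSeven (mask [1, 1344, 4, 256, 20, 1024, 64], 0) = true := by
  decide +kernel

/-- The word of the highest root of E6 from the short arm. -/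
def wTheta : List ℕ := [2, 3, 7, 8, 4, 3, 7, 5, 4, 3]

/-- The images along the word. -/
def trTheta : List ℕ := [64, 69, 325, 337, 1361, 1365, 1109, 1089, 257, 261]

end CfsgLib.KnownB.TypeM23.Unique
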