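import Cfsg.Agent.Lib.KnownB.TypeM22Unique.Seed
import Cfsg.Agent.Lib.KnownB.TypeM23Unique.Search

/-!
In type M(22): the members commuting with two non-commuting members contain six in the pattern of E6,
and the arms of such six continue.
-/

set_option autoImplicit false
set_option maxRecDepth 100000

namespace CfsgLib.KnownB.TypeM23.Unique

open Cfsg CfsgLib.Classical.Unitary CfsgLib.ThreeTransp CfsgLib.ThreeTransp.USix CfsgLib.Involutions
open CfsgLib.Spor (QField)
open CfsgLib.KnownB.TypeM22 CfsgLib.KnownB.TypeM22.Unique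
open CfsgLib.KnownB.Fi22Mult (val val_nil val_cons)

universe u

variable {F : Type} [Field F] {σ : F →+* F} {hF : Nat.card F = 2 ^ 2} {h : UFrob σ 2}
  {G : Type u} [Group G] [Finite G] {D : Set G} {a b : G} {f : Subgroup.closure (nb D a) →* PSU 6 F 2}
  {e : QField ≃+* F} {r s : Fin 3 → V F}

/-- A partner of the first member commuting with the second. -/
def Mem (D : Set G) (a b x : G) : Prop := x ∈ nb D a ∧ Commute b x

theorem Mem.conj (hW : WeakTS D) {x y : G} (hx : Mem D a b x) (hy : Mem D a b y) : Mem D a b (x * y * x) := by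
  refine ⟨?_, (hx.2.mul_right hy.2).mul_right hx.2⟩
  have := hW.nb_conj x hy.1
  rwa [conj_eq_of_commute hx.1.2.2.symm, hW.inv hx.1.1] at this

omit [Finite G] in
theorem on_of_mem {x : G} {c : ℕ} (hx : IsPt hF h f x (vq e r s (qvec c))) (hb : Commute b x) :
    On hF h f e r s b c := ⟨x, hx, hb⟩

theorem mem_of_on {c : ℕ} (hc : On hF h f e r s b c) :
    ∃ x, IsPt hF h f x (vq e r s (qvec c)) ∧ Mem D a b x := by
  obtain ⟨x, hx, hb⟩ := hc
  exact ⟨x, hx, hx.mem, hb⟩

/-- The hyperbolic lines obey the axiom. -/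
theorem on_hyp (hW : WeakTS D) (H : Hyp σ r s) {l : List ℕ} (hl : hypOK l = true) :
    ∃ p ∈ pats3, Fits (On hF h f e r s b) l p := by
  simp only [hypOK, Bool.and_eq_true, Nat.beq_eq] at hl
  obtain ⟨⟨⟨hlen, h1⟩, h2⟩, h3⟩ := hl
  match l, hlen with
  | [u, v, w], _ =>
    have key : ∀ {u v w : ℕ}, prop1 w (mv u v) = true → On hF h f e r s b u → On hF h f e r s b v →
        On hF h f e r s b w := by
      rintro u v w hp ⟨y, hy, by'⟩ ⟨z, hz, bz⟩
      exact ⟨y * z * y, isPt_prop hp (isPt_mv hW H hy hz), (by'.mul_right bz).mul_right by'⟩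
    exact fits_three (key (by simpa using h1)) (key (by simpa using h2)) (key (by simpa using h3))

/-- The search in the members commuting with two. -/
theorem search (S : Setting D) (hP : Maps hF h D) (ha : a ∈ D) (hb : b ∈ D) (hab : ¬ Commute a b)
    (P : PMap hF h D a f) (H : Hyp σ r s) {g : ℕ × ℕ → List ℕ → Bool} {Q : Prop} {t : Tree} {K : ℕ × ℕ}
    (hg : ∀ K l, g K l = true → Sem (On hF h f e r s b) K → Q) (ht : check g t K = true)
    (hK : Sem (On hF h f e r s b) K) : Q :=
  sound (fun _ hl => on_line S hP ha hb hab P H hl) (fun _ hl => on_hyp S.weak H hl) hg t K ht hK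

omit [Finite G] in
theorem sem_masks {T : ℕ → Prop} {l m : List ℕ} (hl : ∀ c ∈ l, T c) (hm : ∀ c ∈ m, ¬ T c) :
    Sem T (mask l, mask m) :=
  ⟨fun c hc => hl c (mask_spec hc), fun c hc => hm c (mask_spec hc)⟩

/-- A frame in which six in the pattern of E6 are standard. -/
theorem tree_frame (P : PMap hF h D a f) (hW : WeakTS D) (e : QField ≃+* F) {q : Fin 6 → G}
    (hq : ∀ i, q i ∈ nb D a) (hc : ∀ i j, i ≠ j → (Commute (q i) (q j) ↔ adjE i.val j.val = false)) :
    ∃ r s, Hyp σ r s ∧ ∀ i : Fin 6,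
      IsPt hF h f (q i) (vq e r s (qvec ([5, 1344, 4, 256, 20, 1024].getD i.val 0))) := by
  choose u hu0 hu using fun i => exists_vec P (hq i)
  have hz : ∀ i j, i ≠ j → (uh σ (u i) (u j) = 0 ↔ adjE i.val j.val = false) := fun i j hij =>
    ((hu i).comm P hW (hu j)).symm.trans (hc i j hij)
  have h3 : ∀ j, j ≠ (3 : Fin 6) → adjE (3 : Fin 6).val j.val = true → uh σ (u 3) (u j) ≠ 0 := fun j hj ha e0 => by
    rw [(hz 3 j (Ne.symm hj)).1 e0] at ha
    exact Bool.noConfusion ha
  obtain ⟨vc, hvc⟩ : ∃ v, v = uh σ (u 3) (u 0) • u 0 := ⟨_, rfl⟩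
  obtain ⟨ve, hve⟩ : ∃ v, v = uh σ (u 3) (u 2) • u 2 := ⟨_, rfl⟩
  have pc : IsPt hF h f (q 0) vc := hvc ▸ (hu 0).smul (h3 0 (by decide) (by decide))
  have pe : IsPt hF h f (q 2) ve := hve ▸ (hu 2).smul (h3 2 (by decide) (by decide))
  have d1 : uh σ (u 3) vc = 1 := by
    rw [hvc, uh_smul_right, mul_comm, norm_one hF h (h3 0 (by decide) (by decide))]
  have e1 : uh σ (u 3) ve = 1 := by
    rw [hve, uh_smul_right, mul_comm, norm_one hF h (h3 2 (by decide) (by decide))]
  have hce : uh σ vc ve = 0 := (pc.comm P hW pe).1 ((hc 0 2 (by decide)).2 (by decide))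
  have hvg : uh σ (vc + ve) (vc + ve) = 0 := by
    simp [uh_add_left, uh_add_right, pc.iso, pe.iso, hce, h.swap_zero hce]
  have hperp : ∀ j, j ≠ (0 : Fin 6) → j ≠ 2 → adjE 0 j.val = false →
      uh σ (vc + ve) (u j) = uh σ ve (u j) := fun j h0 _ hadj => by
    rw [uh_add_left, (pc.comm P hW (hu j)).1 ((hc 0 j (Ne.symm h0)).2 hadj), zero_add]
  have g3 : uh σ (vc + ve) (u 3) = 0 := by
    rw [uh_add_left, show uh σ vc (u 3) = 1 by rw [← h.symm, d1, map_one],
      show uh σ ve (u 3) = 1 by rw [← h.symm, e1, map_one], add_self hF]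
  have g1 : uh σ (vc + ve) (u 1) ≠ 0 := by
    rw [hperp 1 (by decide) (by decide) (by decide)]
    intro e0
    have := (hc 2 1 (by decide)).1 ((pe.comm P hW (hu 1)).2 e0)
    exact absurd this (by decide)
  have g2 : uh σ (vc + ve) ve = 0 := by rw [uh_add_left, hce, pe.iso, add_zero]
  have g4 : uh σ (vc + ve) (u 4) = 0 := by
    rw [hperp 4 (by decide) (by decide) (by decide)]
    exact (pe.comm P hW (hu 4)).1 ((hc 2 4 (by decide)).2 (by decide))
  have g5 : uh σ (vc + ve) (u 5) = 0 := by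
    rw [hperp 5 (by decide) (by decide) (by decide)]
    exact (pe.comm P hW (hu 5)).1 ((hc 2 5 (by decide)).2 (by decide))
  have : Finite F := Nat.finite_of_card_ne_zero (by rw [hF]; norm_num)
  obtain ⟨g, hg⟩ := exists_isPt P hvg fun e0 => g1 (by rw [e0, uh_zero_left])
  have cg : ∀ j : Fin 6, j ≠ 0 → (Commute g (q j) ↔ j ≠ 1) := by
    intro j hj
    fin_cases j
    · exact absurd rfl hj
    · exact iff_of_false (fun e0 => g1 ((hg.comm P hW (hu 1)).1 e0)) (by decide)
    · exact iff_of_true ((hg.comm P hW pe).2 g2) (by decide)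
    · exact iff_of_true ((hg.comm P hW (hu 3)).2 g3) (by decide)
    · exact iff_of_true ((hg.comm P hW (hu 4)).2 g4) (by decide)
    · exact iff_of_true ((hg.comm P hW (hu 5)).2 g5) (by decide)
  obtain ⟨r, s, H, hpt⟩ := path_frame P hW e (q := fun i => if i = 0 then g else q i)
    (fun i => by split_ifs with hi; exacts [hg.mem, hq i]) fun i j hij => by
      have key : ∀ j : Fin 6, j ≠ 0 → (adj6 0 j = false ↔ j ≠ 1) := by decide
      have hsym : ∀ i j : Fin 6, adj6 i j = adj6 j i := by decide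
      have he : ∀ i j : Fin 6, i ≠ 0 → j ≠ 0 → adjE i.val j.val = adj6 i j := by decide
      split_ifs with hi hj hj
      · exact absurd (hi.trans hj.symm) hij
      · subst hi; rw [key j hj]; exact cg j hj
      · subst hj; rw [Commute.symm_iff, hsym, key i hi]; exact cg i hi
      · rw [hc i j hij, he i j hi hj]
  obtain ⟨c, hcL, hcp⟩ := locate P hW H (hq 0)
    (req := [(1, true), (1344, true), (4, true), (256, false), (20, true), (1024, true)]) (L := [5])
    (by decide +kernel) (by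
      intro x hx
      simp only [List.mem_cons, List.not_mem_nil, or_false] at hx
      have hgc : Commute (q 0) g := (pc.comm P hW hg).2 (by rw [uh_add_right, pc.iso, hce, add_zero])
      rcases hx with rfl | rfl | rfl | rfl | rfl | rfl
      · exact ⟨g, by simpa [std] using hpt 0, iff_of_true hgc rfl⟩
      · exact ⟨q 1, by simpa [std] using hpt 1, (hc 0 1 (by decide)).trans (by decide)⟩
      · exact ⟨q 2, by simpa [std] using hpt 2, (hc 0 2 (by decide)).trans (by decide)⟩
      · exact ⟨q 3, by simpa [std] using hpt 3, (hc 0 3 (by decide)).trans (by decide)⟩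
      · exact ⟨q 4, by simpa [std] using hpt 4, (hc 0 4 (by decide)).trans (by decide)⟩
      · exact ⟨q 5, by simpa [std] using hpt 5, (hc 0 5 (by decide)).trans (by decide)⟩)
  rw [List.mem_singleton] at hcL
  subst hcL
  refine ⟨r, s, H, fun i => ?_⟩
  fin_cases i
  · simpa using hcp
  · simpa [std] using hpt 1
  · simpa [std] using hpt 2
  · simpa [std] using hpt 3
  · simpa [std] using hpt 4
  · simpa [std] using hpt 5

theorem theta_facts : ((List.range 6).all fun i =>
    decide (bform qsig (qvec 64) (qvec ([5, 1344, 4, 256, 20, 1024].getD i 0)) = 0) == !Nat.beq i 0) = true := by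
  decide +kernel

set_option maxHeartbeats 1000000 in
/-- Six in the pattern of E6 and their highest root. -/
theorem exists_e6 (S : Setting D) (hP : Maps hF h D) (ha : a ∈ D) (hb : b ∈ D) (hab : ¬ Commute a b)
    (P : PMap hF h D a f) (e : QField ≃+* F) : ∃ (q : Fin 6 → G) (t : G),
      (∀ i, Mem D a b (q i)) ∧ Mem D a b t ∧
      (∀ i j, i ≠ j → (Commute (q i) (q j) ↔ adjE i.val j.val = false)) ∧ ∀ i, (Commute t (q i) ↔ i ≠ 0) := by
  have hW := S.weak
  obtain ⟨q, t, hq, ht, hbt, htq⟩ := goodOff_exists S hP ha hb hab P e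
  obtain ⟨r, s, H, hpt⟩ := path_frame P hW e (fun i => (hq.1 i).1) hq.2
  obtain ⟨c, hc, htp⟩ := locate P hW H ht
    (req := [(1, false), (1344, true), (4, true), (256, true), (20, true), (1024, true)])
    (L := [64]) (by decide +kernel) (by
    intro x hx
    simp only [List.mem_cons, List.not_mem_nil, or_false] at hx
    rcases hx with rfl | rfl | rfl | rfl | rfl | rfl
    · exact ⟨_, hpt 0, by simp [htq]⟩
    · exact ⟨_, hpt 1, by simp [htq]⟩
    · exact ⟨_, hpt 2, by simp [htq]⟩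
    · exact ⟨_, hpt 3, by simp [htq]⟩
    · exact ⟨_, hpt 4, by simp [htq]⟩
    · exact ⟨_, hpt 5, by simp [htq]⟩)
  simp only [List.mem_singleton] at hc
  subst hc
  obtain ⟨w, hw, hwc⟩ : ∃ w : Fin 6 → G, (∀ i, Mem D a b (w i)) ∧
      ∀ i j, i ≠ j → (Commute (w i) (w j) ↔ adjE i.val j.val = false) := by
    refine search (e := e) S hP ha hb hab P H (fun K l hg hK => ?_) treeTree_ok (sem_masks (fun c hc => ?_) ?_)
    · simp only [treeOK, List.all_eq_true, List.mem_range, Bool.and_eq_true, Bool.or_eq_true, Nat.beq_eq,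
        beq_iff_eq] at hg
      choose w hw hwm using fun i : Fin 6 => mem_of_on (hK.1 _ (hg i.val i.2).1)
      refine ⟨w, hwm, fun i j hij => ?_⟩
      rw [commute_code P hW H (hw i) (hw j), ← decide_eq_true_iff (p := bform qsig _ _ = 0),
        ((hg i.val i.2).2 j.val j.2).resolve_left fun e0 => hij (Fin.ext e0)]
      simp
    · simp only [List.mem_cons, List.not_mem_nil, or_false] at hc
      rcases hc with rfl | rfl | rfl | rfl | rfl | rfl
      exacts [⟨_, hpt 0, (hq.1 0).2⟩, ⟨_, hpt 1, (hq.1 1).2⟩, ⟨_, hpt 2, (hq.1 2).2⟩, ⟨_, hpt 3, (hq.1 3).2⟩,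
        ⟨_, hpt 4, (hq.1 4).2⟩, ⟨_, hpt 5, (hq.1 5).2⟩]
    · rintro c hc ⟨z, hz, hbz⟩
      rw [List.mem_singleton] at hc
      subst hc
      exact hbt (IsPt.unique P htp hz ▸ hbz)
  clear hpt htp H
  obtain ⟨r, s, H, hpt⟩ := tree_frame P hW e (fun i => (hw i).1) hwc
  obtain ⟨π, hπ⟩ : ∃ π : ℕ → Fin 6, π = fun i => ([0, 0, 0, 3, 2, 1, 0, 4, 5] : List (Fin 6)).getD i 0 := ⟨_, rfl⟩
  obtain ⟨y, hy⟩ : ∃ y : ℕ → G, y = fun i => w (π i) := ⟨_, rfl⟩
  obtain ⟨cd, hcd⟩ : ∃ cd : ℕ → ℕ, cd = fun i => [5, 1344, 4, 256, 20, 1024].getD (π i).val 0 := ⟨_, rfl⟩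
  have hyp : ∀ i, IsPt hF h f (y i) (vq e r s (qvec (cd i))) ∧ Mem D a b (y i) := by
    intro i
    subst hy hcd
    exact ⟨hpt _, hw _⟩
  have p0 := isPt_word hW H (w := wTheta) (os := trTheta) (c := 5) (cd := cd) (y := y)
    (by subst hcd hπ; decide +kernel) (fun i _ => (hyp i).1) (hpt 0)
  have hv : Mem D a b (val y wTheta * w 0 * (val y wTheta)⁻¹) := by
    have hcomm : Commute b (val y wTheta) := by
      refine Commute.list_prod_right _ _ fun x hx => ?_
      obtain ⟨i, hi, rfl⟩ := List.mem_map.1 hx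
      exact (hyp i).2.2
    exact ⟨p0.mem, (hcomm.mul_right (hw 0).2).mul_right hcomm.inv_right⟩
  refine ⟨w, _, hw, hv, hwc, fun i => ?_⟩
  have hi := List.all_eq_true.1 theta_facts i.val (List.mem_range.2 i.2)
  rw [commute_code P hW H p0 (hpt i), ← decide_eq_true_iff (p := bform qsig _ _ = 0),
    show trTheta.headD 5 = 64 from rfl, beq_iff_eq.1 hi]
  exact (show ∀ i : Fin 6, (!Nat.beq i.val 0) = true ↔ i ≠ 0 by decide) i

end CfsgLib.KnownB.TypeM23.Unique
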