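import Cfsg.Agent.Lib.KnownB.TypeM22Unique.Main
import Cfsg.Agent.Lib.KnownB.TypeM23Unique.Hexa

/-!
In type M(22) eight members in the pattern of `Y₃₂₂` have a ninth, and the nine generate.
-/

set_option autoImplicit false
set_option maxRecDepth 100000

namespace CfsgLib.KnownB.TypeM23.Unique

open Cfsg CfsgLib.Classical.Unitary CfsgLib.ThreeTransp CfsgLib.ThreeTransp.USix CfsgLib.Involutions
open CfsgLib.Spor (QField)
open CfsgLib.KnownB.TypeM22 CfsgLib.KnownB.TypeM22.Unique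
open CfsgLib.KnownB.Fi22Mult (edgeB val val_nil val_cons)

universe u

variable {G : Type u} [Group G] [Finite G] {D : Set G}

/-- Eight members in the pattern, the seventh place being free. -/
structure Eight (D : Set G) (z : ℕ → G) : Prop where
  mem : ∀ i, i < 9 → i ≠ 6 → z i ∈ D
  adj : ∀ i j, i < 9 → j < 9 → i ≠ 6 → j ≠ 6 → (Commute (z i) (z j) ↔ edgeB i j = false)

/-- The exchange of the two arms. -/
def flip (i : ℕ) : ℕ := [0, 1, 2, 3, 7, 8, 6, 4, 5].getD i 0

theorem flip_facts : ((List.range 9).all fun i => Nat.beq i 6 || (Nat.blt (flip i) 9 && !Nat.beq (flip i) 6 &&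
    (List.range 9).all fun j => Nat.beq j 6 || edgeB (flip i) (flip j) == edgeB i j)) = true := by decide +kernel

omit [Finite G] in
theorem Eight.ne {z : ℕ → G} (Z : Eight D z) {i j k : ℕ} (hi : i < 9) (hj : j < 9) (hk : k < 9) (hi6 : i ≠ 6)
    (hj6 : j ≠ 6) (hk6 : k ≠ 6) (h1 : edgeB i k = true) (h2 : edgeB j k = false) : z i ≠ z j := fun e => by
  have := (Z.adj i k hi hk hi6 hk6).1 (e ▸ (Z.adj j k hj hk hj6 hk6).2 h2)
  rw [h1] at this
  exact Bool.noConfusion this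

theorem arm_facts : ([1, 17].all fun c => (List.range 9).all fun i => Nat.blt i 2 || Nat.beq i 6 ||
    (decide (bform qsig (qvec c) (qvec ([0, 0, 5, 256, 4, 1344, 0, 20, 1024].getD i 0)) = 0) ==
      !Nat.beq i (if Nat.beq c 1 then 5 else 8))) = true := by decide +kernel

/-- A ninth member, continuing one of the arms. -/
theorem exists_ninth (S : Setting D) {z : ℕ → G} (Z : Eight D z) :
    ∃ g ∈ D, ∃ o, (o = 5 ∨ o = 8) ∧ ∀ i, i < 9 → i ≠ 6 → (Commute g (z i) ↔ i ≠ o) := by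
  have hW := S.weak
  obtain ⟨F, _, _, σ, hF, hσ, hP⟩ := S.exists_pmap
  obtain ⟨e⟩ := exists_coord hF
  have ha := Z.mem 0 (by norm_num) (by norm_num)
  have hb := Z.mem 1 (by norm_num) (by norm_num)
  have hab : ¬ Commute (z 0) (z 1) := fun e0 =>
    Bool.noConfusion ((Z.adj 0 1 (by norm_num) (by norm_num) (by norm_num) (by norm_num)).1 e0)
  obtain ⟨f, P⟩ := hP _ ha
  obtain ⟨π, hπ⟩ : ∃ π : Fin 6 → ℕ, π = fun i => [2, 5, 4, 3, 7, 8].getD i.val 0 := ⟨_, rfl⟩
  have hπ' : ∀ i, π i < 9 ∧ π i ≠ 6 ∧ edgeB 0 (π i) = false ∧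
      ∃ k : Fin 9, k.val ≠ 6 ∧ edgeB (π i) k.val = true ∧ edgeB 0 k.val = false := by subst hπ; decide
  have hπe : ∀ i j, i ≠ j → edgeB (π i) (π j) = adjE i.val j.val := by subst hπ; decide
  have hnb : ∀ i, z (π i) ∈ nb D (z 0) := fun i => by
    obtain ⟨h9, h6, he, k, hk6, hk1, hk0⟩ := hπ' i
    exact ⟨Z.mem _ h9 h6, Z.ne h9 (by norm_num) k.2 h6 (by norm_num) hk6 hk1 hk0,
      (Z.adj 0 _ (by norm_num) h9 (by norm_num) h6).2 he⟩
  obtain ⟨r, s, H, hpt⟩ := tree_frame P hW e hnb fun i j hij => by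
    rw [Z.adj _ _ (hπ' i).1 (hπ' j).1 (hπ' i).2.1 (hπ' j).2.1, hπe i j hij]
  have hone : ∀ i, π i ≠ 2 → Commute (z 1) (z (π i)) := fun i hi =>
    (Z.adj 1 _ (by norm_num) (hπ' i).1 (by norm_num) (hπ' i).2.1).2 (by
      have key : ∀ i, π i ≠ 2 → edgeB 1 (π i) = false := by subst hπ; decide
      exact key i hi)
  have hp : ∀ i, π i = [2, 5, 4, 3, 7, 8].getD i.val 0 := fun i => by rw [hπ]
  obtain ⟨c, hc, hon⟩ : ∃ c ∈ ([1, 17] : List ℕ), On hF hσ f e r s (z 1) c := by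
    by_contra hno
    push Not at hno
    refine search (e := e) (Q := False) S hP ha hb hab P H (fun K l hg _ => Bool.noConfusion hg) treeArms_ok
      (sem_masks (fun c hc => ?_) fun c hc => ?_)
    · simp only [List.mem_cons, List.not_mem_nil, or_false] at hc
      rcases hc with rfl | rfl | rfl | rfl | rfl
      exacts [⟨_, hpt 2, hone 2 (by rw [hp]; decide)⟩, ⟨_, hpt 1, hone 1 (by rw [hp]; decide)⟩,
        ⟨_, hpt 3, hone 3 (by rw [hp]; decide)⟩, ⟨_, hpt 4, hone 4 (by rw [hp]; decide)⟩,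
        ⟨_, hpt 5, hone 5 (by rw [hp]; decide)⟩]
    · rcases List.mem_cons.1 hc with rfl | hc
      · rintro ⟨x, hx, hbx⟩
        rw [IsPt.unique P hx (hpt 0), hp 0] at hbx
        exact Bool.noConfusion ((Z.adj 1 2 (by norm_num) (by norm_num) (by norm_num) (by norm_num)).1 hbx)
      · exact hno c hc
  obtain ⟨g, hg, hgm⟩ := mem_of_on hon
  refine ⟨g, hgm.1.1, if Nat.beq c 1 then 5 else 8, by split <;> simp, fun i hi hi6 => ?_⟩
  have ho : ∀ i, i < 2 → i ≠ if Nat.beq c 1 then 5 else 8 := fun i hi => by split <;> omega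
  rcases Nat.lt_or_ge i 2 with h2 | h2
  · refine iff_of_true ?_ (ho i h2)
    interval_cases i
    exacts [hgm.1.2.2.symm, hgm.2.symm]
  obtain ⟨j, rfl⟩ : ∃ j, π j = i := by
    subst hπ
    interval_cases i
    exacts [⟨0, rfl⟩, ⟨3, rfl⟩, ⟨2, rfl⟩, ⟨1, rfl⟩, absurd rfl hi6, ⟨4, rfl⟩, ⟨5, rfl⟩]
  have hf := List.all_eq_true.1 (List.all_eq_true.1 arm_facts c hc) (π j) (List.mem_range.2 hi)
  simp only [Bool.or_eq_true, Nat.blt_eq, Nat.beq_eq, beq_iff_eq] at hf
  have hcd : [0, 0, 5, 256, 4, 1344, 0, 20, 1024].getD (π j) 0 = [5, 1344, 4, 256, 20, 1024].getD j.val 0 := by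
    subst hπ; exact (show ∀ j : Fin 6, [0, 0, 5, 256, 4, 1344, 0, 20, 1024].getD ([2, 5, 4, 3, 7, 8].getD j.val 0) 0 = [5, 1344, 4, 256, 20, 1024].getD j.val 0 by decide) j
  rw [commute_code P hW H hg (hpt j), ← decide_eq_true_iff (p := bform qsig _ _ = 0), ← hcd,
    (hf.resolve_left (by omega)), Bool.not_eq_true', ← Bool.not_eq_true, Nat.beq_eq]
  simp only [Nat.beq_eq, ne_eq]

/-- Nine members, renumbered. -/
theorem exists_nine (S : Setting D) {z : ℕ → G} (Z : Eight D z) :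
    ∃ y : ℕ → G, Pattern D y ∧ ∀ i, i < 9 → i ≠ 6 → ∃ k, k < 9 ∧ k ≠ 6 ∧ y i = z k := by
  obtain ⟨g, hg, o, ho, hgz⟩ := exists_ninth S Z
  obtain ⟨τ, hτ, hτe, hτo⟩ : ∃ τ : ℕ → ℕ, (∀ i, i < 9 → i ≠ 6 → τ i < 9 ∧ τ i ≠ 6) ∧
      (∀ i j, i < 9 → j < 9 → i ≠ 6 → j ≠ 6 → edgeB (τ i) (τ j) = edgeB i j) ∧
      ∀ i, i < 9 → i ≠ 6 → (τ i ≠ o ↔ edgeB 6 i = false) := by
    rcases ho with rfl | rfl
    · exact ⟨id, fun i h1 h2 => ⟨h1, h2⟩, fun _ _ _ _ _ _ => rfl, fun i h1 h2 => by interval_cases i <;> decide⟩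
    · refine ⟨flip, fun i h1 h2 => ?_, fun i j h1 h2 h3 h4 => ?_, fun i h1 h2 => by interval_cases i <;> decide⟩
      · have := List.all_eq_true.1 flip_facts i (List.mem_range.2 h1)
        simp only [Bool.or_eq_true, Nat.beq_eq, Bool.and_eq_true, Nat.blt_eq, Bool.not_eq_true'] at this
        obtain ⟨⟨a1, a2⟩, -⟩ := this.resolve_left h2
        exact ⟨a1, fun e0 => by rw [e0] at a2; exact Bool.noConfusion a2⟩
      · have := List.all_eq_true.1 flip_facts i (List.mem_range.2 h1)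
        simp only [Bool.or_eq_true, Nat.beq_eq, Bool.and_eq_true, List.all_eq_true, List.mem_range, beq_iff_eq] at this
        exact ((this.resolve_left h3).2 j h2).resolve_left h4
  obtain ⟨y, hy⟩ : ∃ y : ℕ → G, y = fun i => if i = 6 then g else z (τ i) := ⟨_, rfl⟩
  have y6 : y 6 = g := by rw [hy]; exact if_pos rfl
  have yi : ∀ i, i ≠ 6 → y i = z (τ i) := fun i hi => by rw [hy]; exact if_neg hi
  have hsym : ∀ i, i < 9 → edgeB i 6 = edgeB 6 i := by decide
  have hall : ∀ i j, i < 9 → j < 9 → (Commute (y i) (y j) ↔ edgeB i j = false) := by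
    intro i j hi hj
    rcases eq_or_ne i 6 with rfl | hi6 <;> rcases eq_or_ne j 6 with rfl | hj6
    · exact iff_of_true (Commute.refl _) (by decide)
    · rw [y6, yi j hj6, hgz _ (hτ j hj hj6).1 (hτ j hj hj6).2, hτo j hj hj6]
    · rw [y6, yi i hi6, Commute.symm_iff, hgz _ (hτ i hi hi6).1 (hτ i hi hi6).2, hτo i hi hi6, hsym i hi]
    · rw [yi i hi6, yi j hj6, Z.adj _ _ (hτ i hi hi6).1 (hτ j hj hj6).1 (hτ i hi hi6).2 (hτ j hj hj6).2,
        hτe i j hi hj hi6 hj6]
  refine ⟨y, ⟨fun i hi => ?_, fun i j hi hj he => (hall i j hi hj).2 he, fun i j hi hj he e0 => ?_⟩,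
    fun i hi h6 => ⟨τ i, (hτ i hi h6).1, (hτ i hi h6).2, yi i h6⟩⟩
  · rcases eq_or_ne i 6 with rfl | h6
    · rw [y6]; exact hg
    · rw [yi i h6]; exact Z.mem _ (hτ i hi h6).1 (hτ i hi h6).2
  · rw [(hall i j hi hj).1 e0] at he
    exact Bool.noConfusion he

theorem seven_facts : locOK [(1, true), (1344, true), (4, true), (256, false), (20, true), (1024, true)] [5] = true := by
  decide +kernel

/-- In such nine the translation has order three. -/
theorem tee_ncomm (S : Setting D) {y : ℕ → G} (Y : Pattern D y) : ¬ Commute (y 1) (val y tee) := by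
  have hW := S.weak
  obtain ⟨F, _, _, σ, hF, hσ, hP⟩ := S.exists_pmap
  obtain ⟨e⟩ := exists_coord hF
  have ha := Y.mem 0 (by norm_num)
  have hb := Y.mem 1 (by norm_num)
  have hab : ¬ Commute (y 0) (y 1) := Y.ncomm 0 1 (by norm_num) (by norm_num) (by decide)
  obtain ⟨f, P⟩ := hP _ ha
  obtain ⟨r, s, H, hpt⟩ := Y.frame hW (o := 0) (by norm_num) (p := [6, 5, 4, 3, 7, 8]) P e (by decide +kernel)
  obtain ⟨c, hc, hcp⟩ := locate P hW H (Y.mem_nb (i := 0) (j := 2) (by norm_num) (by norm_num) (by norm_num) (by decide))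
    seven_facts (by
      intro x hx
      simp only [List.mem_cons, List.not_mem_nil, or_false] at hx
      rcases hx with rfl | rfl | rfl | rfl | rfl | rfl
      · exact ⟨_, hpt 0 (by norm_num), iff_of_true (Y.comm 2 6 (by norm_num) (by norm_num) (by decide)) rfl⟩
      · exact ⟨_, hpt 1 (by norm_num), iff_of_true (Y.comm 2 5 (by norm_num) (by norm_num) (by decide)) rfl⟩
      · exact ⟨_, hpt 2 (by norm_num), iff_of_true (Y.comm 2 4 (by norm_num) (by norm_num) (by decide)) rfl⟩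
      · exact ⟨_, hpt 3 (by norm_num), iff_of_false (Y.ncomm 2 3 (by norm_num) (by norm_num) (by decide))
          Bool.false_ne_true⟩
      · exact ⟨_, hpt 4 (by norm_num), iff_of_true (Y.comm 2 7 (by norm_num) (by norm_num) (by decide)) rfl⟩
      · exact ⟨_, hpt 5 (by norm_num), iff_of_true (Y.comm 2 8 (by norm_num) (by norm_num) (by decide)) rfl⟩)
  rw [List.mem_singleton] at hc
  subst hc
  obtain ⟨cd, hcd⟩ : ∃ cd : ℕ → ℕ, cd = fun i => [0, 0, 5, 256, 4, 1344, 1, 20, 1024].getD i 0 := ⟨_, rfl⟩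
  have hyp : ∀ i, 2 ≤ i → i < 9 → IsPt hF hσ f (y i) (vq e r s (qvec (cd i))) := by
    intro i h2 h9
    subst hcd
    interval_cases i
    exacts [hcp, hpt 3 (by norm_num), hpt 2 (by norm_num), hpt 1 (by norm_num), hpt 0 (by norm_num),
      hpt 4 (by norm_num), hpt 5 (by norm_num)]
  have h1 : IsPt hF hσ f (val y tee) (vq e r s (qvec 64)) := by
    rw [show tee = conjW wTee [8] from rfl, Y.val_conjW hW (by decide +kernel), val_cons, val_nil, mul_one]
    have := isPt_word hW H (w := wTee) (os := trTee) (c := 1024) (cd := cd) (y := y) (by subst hcd; decide +kernel)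
      (fun i hi => hyp i (by revert i; decide) (by revert i; decide))
      (by simpa [hcd] using hyp 8 (by norm_num) (by norm_num))
    simpa [trTee] using this
  intro hbt
  refine search (e := e) (Q := False) S hP ha hb hab P H (fun K l hg _ => Bool.noConfusion hg) treeSeven_ok
    (sem_mask fun c hc => ?_)
  have h : ∀ i, 3 ≤ i → i < 9 → On hF hσ f e r s (y 1) (cd i) := fun i h3 h9 =>
    ⟨_, hyp i (by omega) h9, Y.comm 1 i (by norm_num) h9 (by interval_cases i <;> decide)⟩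
  subst hcd
  simp only [List.mem_cons, List.not_mem_nil, or_false] at hc
  rcases hc with rfl | rfl | rfl | rfl | rfl | rfl | rfl
  exacts [h 6 (by norm_num) (by norm_num), h 5 (by norm_num) (by norm_num), h 4 (by norm_num) (by norm_num),
    h 3 (by norm_num) (by norm_num), h 7 (by norm_num) (by norm_num), h 8 (by norm_num) (by norm_num),
    ⟨_, h1, hbt⟩]

/-- The nine generate. -/
theorem nine_generate (S : Setting D) {y : ℕ → G} (Y : Pattern D y) {K : Subgroup G}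
    (hK : ∀ i, i < 9 → y i ∈ K) : K = ⊤ := by
  obtain ⟨φ, hφ⟩ := Y.exists_lift S (tee_ncomm S Y)
  obtain ⟨e, -⟩ := exists_iso_of_setting S
  have : IsSimpleGroup Cfsg.Spor.Fi22 := CfsgLib.Spor.Fi22.isFi22.1
  have : Finite Cfsg.Spor.Fi22 := CfsgLib.Spor.Fi22.finite
  have hinj : Function.Injective φ := by
    rw [← MonoidHom.ker_eq_bot_iff]
    refine ((MonoidHom.normal_ker φ).eq_bot_or_eq_top).resolve_right fun e0 => ?_
    have h0 : y 0 = 1 := by
      have h0' := hφ .a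
      rw [show CfsgLib.Spor.Fi22.idx Cfsg.Spor.Fi22.Gen.a = 0 from rfl] at h0'
      rw [← h0']
      exact MonoidHom.mem_ker.1 (e0 ▸ Subgroup.mem_top _)
    exact Y.ncomm 0 1 (by norm_num) (by norm_num) (by decide) (h0 ▸ Commute.one_left _)
  have hb : Function.Bijective φ :=
    (Nat.bijective_iff_injective_and_card φ).2 ⟨hinj, (Nat.card_congr e.toEquiv).symm⟩
  refine eq_top_iff.2 fun g _ => ?_
  obtain ⟨x, rfl⟩ := hb.2 g
  have hle : (⊤ : Subgroup Cfsg.Spor.Fi22) ≤ K.comap φ := by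
    rw [← PresentedGroup.closure_range_of, Subgroup.closure_le]
    rintro _ ⟨i, rfl⟩
    rw [SetLike.mem_coe, Subgroup.mem_comap, hφ i]
    exact hK _ (idx_lt i)
  exact hle (Subgroup.mem_top x)

end CfsgLib.KnownB.TypeM23.Unique
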