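import Cfsg.Agent.Lib.KnownB.TypeM23.Main
import Cfsg.Agent.Lib.KnownB.TypeM23Unique.Arm
import Cfsg.Agent.Lib.KnownB.TypeM23Unique.Nine

/-!
In type M(23) the members commuting with two non-commuting members contain eight in the pattern of
`Y₃₂₂`.
-/

set_option autoImplicit false
set_option maxRecDepth 100000

namespace CfsgLib.KnownB.TypeM23.Unique

open Cfsg CfsgLib.Classical.Unitary CfsgLib.ThreeTransp CfsgLib.Involutions
open CfsgLib.KnownB.TypeM22 CfsgLib.KnownB.TypeM22.Unique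
open CfsgLib.KnownB.Fi22Mult (edgeB)

universe u

variable {G : Type u} [Group G] [Finite G] {D : Set G} {d₀ x₀ p : G}

/-- A member commuting with both. -/
def Both (D : Set G) (d₀ x₀ y : G) : Prop := y ∈ nb D d₀ ∧ y ∈ nb D x₀

theorem Both.nb (hy : Both D d₀ x₀ p) (hd : d₀ ∈ D) (hx : x₀ ∈ D) : d₀ ∈ nb D p ∧ x₀ ∈ nb D p :=
  ⟨⟨hd, hy.1.2.1.symm, hy.1.2.2.symm⟩, hx, hy.2.2.1.symm, hy.2.2.2.symm⟩

variable (S : Setting23 D) (hd : d₀ ∈ D) (hx : x₀ ∈ D) (hn : ¬ Commute d₀ x₀)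

include S hd hx hn in
/-- The pair in the quotient at a member commuting with both. -/
theorem quot_pair (hp : Both D d₀ x₀ p) : TypeM22.Setting (Dq D p) ∧ qd D p d₀ ∈ Dq D p ∧ qd D p x₀ ∈ Dq D p ∧
    ¬ Commute (qd D p d₀) (qd D p x₀) :=
  ⟨S.quot hp.1.1, qd_mem (hp.nb hd hx).1, qd_mem (hp.nb hd hx).2,
    fun e => hn ((S.qd_comm hp.1.1 (hp.nb hd hx).1 (hp.nb hd hx).2).1 e)⟩

include S hd hx hn in
/-- A member in the quotient comes from a member commuting with both. -/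
theorem lift_mem' (hp : Both D d₀ x₀ p) {z : Qd D p} (hz : Mem (Dq D p) (qd D p d₀) (qd D p x₀) z) :
    ∃ y, y ∈ nb D p ∧ Both D d₀ x₀ y ∧ qd D p y = z := by
  obtain ⟨h1, h2⟩ := hp.nb hd hx
  obtain ⟨y, ⟨hy, hy0⟩, rfl⟩ := S.pair_lift hp.1.1 h1 hz.1
  have hc : Commute x₀ y := (S.qd_comm hp.1.1 h2 hy).1 hz.2
  exact ⟨y, hy, ⟨hy0, hy.1, fun e => hn (e ▸ hy0.2.2), hc⟩, rfl⟩

include S hd hx in
theorem mem_image (hp : Both D d₀ x₀ p) {y : G} (hy : y ∈ nb D p) (hb : Both D d₀ x₀ y) :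
    Mem (Dq D p) (qd D p d₀) (qd D p x₀) (qd D p y) := by
  obtain ⟨h1, h2⟩ := hp.nb hd hx
  exact ⟨(S.pair_mem hp.1.1 h1 hy).2 ⟨hy, hb.1⟩, (S.qd_comm hp.1.1 h2 hy).2 hb.2.2.2⟩

include S in
theorem qd_triple {t c : G} (ht : t ∈ nb D p) (hc : c ∈ nb D p) :
    t * c * t ∈ nb D p ∧ qd D p (t * c * t) = qd D p t * qd D p c * qd D p t := by
  refine ⟨?_, by rw [qd_mul (mul_mem (mem_H ht) (mem_H hc)) (mem_H ht), qd_mul (mem_H ht) (mem_H hc)]⟩
  have := S.weak.nb_conj t hc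
  rwa [conj_eq_of_commute ht.2.2.symm, S.weak.inv ht.1] at this

omit [Finite G] in
/-- A member commuting with `p` is a partner when some third member tells them apart. -/
theorem nb_of_third {y w : G} (hy : y ∈ D) (hc : Commute p y) (hpw : Commute p w) (hyw : ¬ Commute y w) :
    y ∈ nb D p := ⟨hy, fun e => hyw (e ▸ hpw), hc⟩

include S hd hx hn in
/-- Eight members commuting with both, in the pattern of the diagram. -/
theorem exists_eight : ∃ z : ℕ → G, (∀ i, i < 9 → i ≠ 6 → Both D d₀ x₀ (z i)) ∧ Eight D z := by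
  have hW := S.weak
  obtain ⟨a, ha, had, hax⟩ := S.cls.both_nonempty S.prim S.exists_pair hd hx hn
  have hA : Both D d₀ x₀ a := ⟨⟨ha, fun e => hn (e ▸ hax).symm, had⟩, ha, fun e => hn (e ▸ had), hax⟩
  obtain ⟨Sa, ha1, ha2, ha3⟩ := quot_pair S hd hx hn hA
  obtain ⟨F, _, _, σ, hF, hσ, hP⟩ := Sa.exists_pmap
  obtain ⟨e⟩ := exists_coord hF
  obtain ⟨φ, P⟩ := hP _ ha1
  obtain ⟨q, t, hq, ht, hqq, htq⟩ := exists_e6 Sa hP ha1 ha2 ha3 P e
  choose Q hQ hQb eQ using fun i => lift_mem' S hd hx hn hA (hq i)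
  obtain ⟨T, hT, hTb, eT⟩ := lift_mem' S hd hx hn hA ht
  have cQ : ∀ i j, i ≠ j → (Commute (Q i) (Q j) ↔ adjE i.val j.val = false) := fun i j hij => by
    rw [← S.qd_comm ha (hQ i) (hQ j), eQ, eQ]; exact hqq i j hij
  have cT : ∀ i, Commute T (Q i) ↔ i ≠ 0 := fun i => by
    rw [← S.qd_comm ha hT (hQ i), eT, eQ]; exact htq i
  have yes : ∀ i j : Fin 6, i ≠ j → adjE i.val j.val = false → Commute (Q i) (Q j) := fun i j h1 h2 => (cQ i j h1).2 h2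
  have no : ∀ i j : Fin 6, i ≠ j → adjE i.val j.val = true → ¬ Commute (Q i) (Q j) := fun i j h1 h2 e0 => by
    rw [(cQ i j h1).1 e0] at h2; exact Bool.noConfusion h2
  have Qa : ∀ i, Commute a (Q i) := fun i => (hQ i).2.2
  have noT : ¬ Commute T (Q 0) := fun e0 => (cT 0).1 e0 rfl
  -- seen from the last letter of an arm
  have seen : ∀ (o m n : Fin 6), o ≠ 0 → (o = 1 ∧ m = 4 ∧ n = 5 ∨ o = 5 ∧ m = 2 ∧ n = 1) →
      Both D d₀ x₀ (Q o) ∧ a ∈ nb D (Q o) ∧ Q 0 ∈ nb D (Q o) ∧ Q 3 ∈ nb D (Q o) ∧ Q m ∈ nb D (Q o) ∧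
        Q n ∈ nb D (Q o) ∧ T ∈ nb D (Q o) ∧
        Arm (Dq D (Q o)) (qd D (Q o) d₀) (qd D (Q o) x₀)
          (fun i => qd D (Q o) ([a, Q 0, Q 3, Q m, Q n, T].getD i.val 1)) := by
    intro o m n ho hcase
    have tab : (o ≠ 3 ∧ o ≠ m ∧ o ≠ n ∧ (0 : Fin 6) ≠ m ∧ (0 : Fin 6) ≠ n ∧ (3 : Fin 6) ≠ m ∧ (3 : Fin 6) ≠ n ∧
        m ≠ n ∧ m ≠ 0 ∧ n ≠ 0) ∧
        adjE o.val 0 = false ∧ adjE o.val 3 = false ∧ adjE o.val m.val = false ∧ adjE o.val n.val = false ∧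
        adjE 0 m.val = false ∧ adjE 0 n.val = false ∧ adjE 3 m.val = true ∧ adjE 3 n.val = false ∧
        adjE m.val n.val = true := by
      rcases hcase with ⟨rfl, rfl, rfl⟩ | ⟨rfl, rfl, rfl⟩ <;> decide
    obtain ⟨⟨o3, om, on', m0, n0, m3, n3, mn, m0', n0'⟩, a0, a3, am, an, b0m, b0n, b3m, b3n, bmn⟩ := tab
    have hb := hQb o
    have na : a ∈ nb D (Q o) := ⟨ha, (hQ o).2.1.symm, (Qa o).symm⟩
    have c03 : ¬ Commute (Q 0) (Q 3) := no 0 3 (by decide) (by decide)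
    have n0c : Q 0 ∈ nb D (Q o) := nb_of_third (hQ 0).1 (yes o 0 ho a0) (yes o 3 o3 a3) c03
    have n3c : Q 3 ∈ nb D (Q o) := nb_of_third (hQ 3).1 (yes o 3 o3 a3) (yes o 0 ho a0) fun e0 => c03 e0.symm
    have nmc : Q m ∈ nb D (Q o) := nb_of_third (hQ m).1 (yes o m om am) (yes o 3 o3 a3) fun e0 =>
      no 3 m m3 b3m e0.symm
    have nnc : Q n ∈ nb D (Q o) := nb_of_third (hQ n).1 (yes o n on' an) (yes o m om am) fun e0 =>
      no m n mn bmn e0.symm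
    have nTc : T ∈ nb D (Q o) := nb_of_third hT.1 ((cT o).2 ho).symm (yes o 0 ho a0) noT
    refine ⟨hb, na, n0c, n3c, nmc, nnc, nTc, ⟨fun i => ?_, fun i j hij => ?_⟩⟩
    · fin_cases i
      exacts [mem_image S hd hx hb na hA, mem_image S hd hx hb n0c (hQb 0), mem_image S hd hx hb n3c (hQb 3),
        mem_image S hd hx hb nmc (hQb m), mem_image S hd hx hb nnc (hQb n), mem_image S hd hx hb nTc hTb]
    · have hm : ∀ i : Fin 6, [a, Q 0, Q 3, Q m, Q n, T].getD i.val 1 ∈ nb D (Q o) := fun i => by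
        fin_cases i
        exacts [na, n0c, n3c, nmc, nnc, nTc]
      rw [S.qd_comm hb.1.1 (hm i) (hm j)]
      clear hm
      have t : ∀ k, Commute T (Q k) ↔ k ≠ 0 := cT
      fin_cases i <;> fin_cases j <;> first | exact absurd rfl hij | skip
      all_goals simp [adjA, Commute.refl, Qa, fun k => (Qa k).symm, hT.2.2, hT.2.2.symm, cQ _ _ (show (0 : Fin 6) ≠ 3 by decide),
        cQ _ _ (show (3 : Fin 6) ≠ 0 by decide), cQ _ _ m0, cQ _ _ n0, cQ _ _ m3, cQ _ _ n3, cQ _ _ mn,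
        cQ _ _ m0.symm, cQ _ _ n0.symm, cQ _ _ m3.symm, cQ _ _ n3.symm, cQ _ _ mn.symm, t,
        fun k => (Commute.symm_iff (a := Q k) (b := T)).trans (t k), m0', n0']
      all_goals rcases hcase with ⟨rfl, rfl, rfl⟩ | ⟨rfl, rfl, rfl⟩ <;> decide
  obtain ⟨hb1, na1, nc1, nd1, nh1, ni1, nT1, A1⟩ := seen 1 4 5 (by decide) (Or.inl ⟨rfl, rfl, rfl⟩)
  obtain ⟨S1, f1, f2, f3⟩ := quot_pair S hd hx hn hb1
  obtain ⟨F₁, _, _, σ₁, hF₁, hσ₁, hP₁⟩ := S1.exists_pmap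
  obtain ⟨e₁⟩ := exists_coord hF₁
  obtain ⟨φ₁, P₁⟩ := hP₁ _ f1
  obtain ⟨x, hx', x2, x3, x4, x0, x1, x5⟩ := exists_arm S1 hP₁ f1 f2 f3 P₁ e₁ A1
  obtain ⟨b, hb, hbb, rfl⟩ := lift_mem' S hd hx hn hb1 hx'
  obtain ⟨hk1, ek1⟩ := qd_triple S nT1 nc1
  have bd : Commute b (Q 3) := (S.qd_comm hb1.1.1 hb nd1).1 x2
  have bh : Commute b (Q 4) := (S.qd_comm hb1.1.1 hb nh1).1 x3
  have bi : Commute b (Q 5) := (S.qd_comm hb1.1.1 hb ni1).1 x4
  have ba : ¬ Commute b a := fun e0 => x0 ((S.qd_comm hb1.1.1 hb na1).2 e0)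
  have bc : ¬ Commute b (Q 0) := fun e0 => x1 ((S.qd_comm hb1.1.1 hb nc1).2 e0)
  have bk : ¬ Commute b (T * Q 0 * T) := fun e0 => x5 (by
    have := (S.qd_comm hb1.1.1 hb hk1).2 e0
    rwa [ek1] at this)
  have bf : Commute b (Q 1) := hb.2.2.symm
  obtain ⟨hb5, na5, nc5, nd5, ne5, nf5, nT5, A5⟩ := seen 5 2 1 (by decide) (Or.inr ⟨rfl, rfl, rfl⟩)
  have hb' : b ∈ nb D (Q 5) := nb_of_third hb.1 bi.symm (yes 5 0 (by decide) (by decide)) bc
  obtain ⟨hk5, ek5⟩ := qd_triple S nT5 nc5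
  have be : Commute b (Q 2) := by
    obtain ⟨S5, g1, g2, g3⟩ := quot_pair S hd hx hn hb5
    obtain ⟨F₅, _, _, σ₅, hF₅, hσ₅, hP₅⟩ := S5.exists_pmap
    obtain ⟨e₅⟩ := exists_coord hF₅
    obtain ⟨φ₅, P₅⟩ := hP₅ _ g1
    refine (S.qd_comm hb5.1.1 hb' ne5).1 (arm_comm S5 hP₅ g1 g2 g3 P₅ e₅ A5 (mem_image S hd hx hb5 hb' hbb)
      ((S.qd_comm hb5.1.1 hb' nd5).2 bd) ((S.qd_comm hb5.1.1 hb' nf5).2 bf)
      (fun e0 => ba ((S.qd_comm hb5.1.1 hb' na5).1 e0)) (fun e0 => bc ((S.qd_comm hb5.1.1 hb' nc5).1 e0))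
      fun e0 => bk ((S.qd_comm hb5.1.1 hb' hk5).1 (by rw [ek5]; exact e0)))
  obtain ⟨π, hπ⟩ : ∃ π : ℕ → Fin 6, π = fun i => ([0, 0, 0, 3, 2, 1, 0, 4, 5] : List (Fin 6)).getD i 0 := ⟨_, rfl⟩
  obtain ⟨z, hz⟩ : ∃ z : ℕ → G, z = fun i => if i = 0 then a else if i = 1 then b else Q (π i) := ⟨_, rfl⟩
  have z0 : z 0 = a := by rw [hz]; simp
  have z1 : z 1 = b := by rw [hz]; simp
  have zi : ∀ i, 2 ≤ i → z i = Q (π i) := fun i hi => by
    rw [hz]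
    simp [show i ≠ 0 by omega, show i ≠ 1 by omega]
  refine ⟨z, fun i hi hi6 => ?_, fun i hi hi6 => ?_, fun i j hi hj hi6 hj6 => ?_⟩
  · rcases Nat.lt_or_ge i 2 with h | h
    · interval_cases i
      exacts [z0 ▸ hA, z1 ▸ hbb]
    · rw [zi i h]; exact hQb _
  · rcases Nat.lt_or_ge i 2 with h | h
    · interval_cases i
      exacts [z0 ▸ ha, z1 ▸ hb.1]
    · rw [zi i h]; exact (hQ _).1
  have hsym : ∀ i j, edgeB i j = edgeB j i := fun i j => by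
    simp only [edgeB, List.any_cons, List.any_nil, Bool.or_comm, Bool.or_left_comm]
  have row : ∀ i j, i < 2 → j < 9 → j ≠ 6 → (Commute (z i) (z j) ↔ edgeB i j = false) := by
    intro i j hi hj hj6
    rcases Nat.lt_or_ge j 2 with h | h
    · interval_cases i <;> interval_cases j
      exacts [iff_of_true (Commute.refl _) (by decide),
        iff_of_false (by rw [z0, z1]; exact fun e0 => ba e0.symm) (by decide),
        iff_of_false (by rw [z0, z1]; exact ba) (by decide), iff_of_true (Commute.refl _) (by decide)]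
    rw [zi j h]
    interval_cases i
    · rw [z0]
      refine iff_of_true (Qa _) ?_
      interval_cases j <;> decide
    · rw [z1]
      subst hπ
      interval_cases j
      exacts [iff_of_false bc (by decide), iff_of_true bd (by decide), iff_of_true be (by decide),
        iff_of_true bf (by decide), absurd rfl hj6, iff_of_true bh (by decide), iff_of_true bi (by decide)]
  rcases Nat.lt_or_ge i 2 with h | h
  · exact row i j h hj hj6
  rcases Nat.lt_or_ge j 2 with h' | h'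
  · rw [Commute.symm_iff, hsym]; exact row j i h' hi hi6
  rw [zi i h, zi j h']
  rcases eq_or_ne i j with rfl | hij
  · refine iff_of_true (Commute.refl _) ?_
    interval_cases i <;> decide
  have key : ∀ i j : Fin 9, 2 ≤ i.val → 2 ≤ j.val → i.val ≠ 6 → j.val ≠ 6 → i ≠ j →
      π i.val ≠ π j.val ∧ adjE (π i.val).val (π j.val).val = edgeB i.val j.val := by subst hπ; decide +kernel
  obtain ⟨k1, k2⟩ := key ⟨i, hi⟩ ⟨j, hj⟩ h h' hi6 hj6 fun e0 => hij (congrArg Fin.val e0)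
  exact k2 ▸ cQ _ _ k1

end CfsgLib.KnownB.TypeM23.Unique
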