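import Cfsg.Agent.Lib.KnownB.TypeM22Unique.Tree
import Cfsg.Agent.Lib.KnownB.TypeM22Unique.Codes

/-!
Case distinctions using two kinds of lines: totally isotropic ones, met in none or two of five points,
and hyperbolic ones, of which two of the three points give the third.
-/

set_option autoImplicit false

namespace CfsgLib.KnownB.TypeM23.Unique

open CfsgLib.Spor (QField)
open CfsgLib.KnownB.TypeM22.Unique (Tree Forest Sem Fits consistent extend consistent_of_fits sem_extend lineOK mv prop1)

/-- The patterns on a hyperbolic line. -/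
def pats3 : List (List Bool) :=
  [[false, false, false], [true, false, false], [false, true, false], [false, false, true], [true, true, true]]

/-- The patterns on a list. -/
def patsFor (l : List ℕ) : List (List Bool) :=
  if Nat.beq l.length 3 then pats3 else TypeM22.Unique.pats

/-- The three points of a hyperbolic line. -/
def hypOK (l : List ℕ) : Bool :=
  Nat.beq l.length 3 && prop1 (l.getD 2 0) (mv (l.getD 0 0) (l.getD 1 0)) &&
    prop1 (l.getD 1 0) (mv (l.getD 0 0) (l.getD 2 0)) && prop1 (l.getD 0 0) (mv (l.getD 1 0) (l.getD 2 0))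

mutual
/-- The check of a tree. -/
def check (g : ℕ × ℕ → List ℕ → Bool) : Tree → ℕ × ℕ → Bool
  | .leaf l, K => g K l
  | .branch l ts, K => (if Nat.beq l.length 3 then hypOK l else lineOK l) &&
      checkAll g ts (((patsFor l).filter (consistent K l)).map (extend K l))
/-- The check of the branches. -/
def checkAll (g : ℕ × ℕ → List ℕ → Bool) : Forest → List (ℕ × ℕ) → Bool
  | .nil, [] => true
  | .cons t ts, K :: Ks => check g t K && checkAll g ts Ks
  | _, _ => false
end

mutual
/-- A checked tree proves the goal. -/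
theorem sound {T : ℕ → Prop} {g : ℕ × ℕ → List ℕ → Bool} {Q : Prop}
    (h5 : ∀ l, lineOK l = true → ∃ p ∈ TypeM22.Unique.pats, Fits T l p)
    (h3 : ∀ l, hypOK l = true → ∃ p ∈ pats3, Fits T l p) (hg : ∀ K l, g K l = true → Sem T K → Q) :
    ∀ (t : Tree) (K : ℕ × ℕ), check g t K = true → Sem T K → Q
  | .leaf l, K, h, hK => hg K l (by simpa [check] using h) hK
  | .branch l ts, K, h, hK => by
    simp only [check, Bool.and_eq_true] at h
    obtain ⟨p, hp, hfit⟩ : ∃ p ∈ patsFor l, Fits T l p := by
      by_cases hl : Nat.beq l.length 3 = true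
      · rw [patsFor, if_pos hl]; rw [if_pos hl] at h; exact h3 l h.1
      · rw [patsFor, if_neg hl]; rw [if_neg hl] at h; exact h5 l h.1
    exact all_sound h5 h3 hg ts _ h.2 ⟨extend K l p,
      List.mem_map.2 ⟨p, List.mem_filter.2 ⟨hp, consistent_of_fits hK hfit⟩, rfl⟩, sem_extend hK hfit⟩
theorem all_sound {T : ℕ → Prop} {g : ℕ × ℕ → List ℕ → Bool} {Q : Prop}
    (h5 : ∀ l, lineOK l = true → ∃ p ∈ TypeM22.Unique.pats, Fits T l p)
    (h3 : ∀ l, hypOK l = true → ∃ p ∈ pats3, Fits T l p) (hg : ∀ K l, g K l = true → Sem T K → Q) :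
    ∀ (ts : Forest) (Ks : List (ℕ × ℕ)), checkAll g ts Ks = true → (∃ K ∈ Ks, Sem T K) → Q
  | .nil, [], _, ⟨K, hK, _⟩ => absurd hK (by simp)
  | .nil, _ :: _, h, _ => by simp [checkAll] at h
  | .cons _ _, [], h, _ => by simp [checkAll] at h
  | .cons t ts, K :: Ks, h, ⟨K', hK', hsem⟩ => by
    simp only [checkAll, Bool.and_eq_true] at h
    rcases List.mem_cons.1 hK' with rfl | hK'
    · exact sound h5 h3 hg t _ h.1 hsem
    · exact all_sound h5 h3 hg ts Ks h.2 ⟨K', hK', hsem⟩
end

theorem pats3_spec : ∀ b₀ b₁ b₂ : Bool, ((b₀ && b₁) → b₂) → ((b₀ && b₂) → b₁) → ((b₁ && b₂) → b₀) →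
    [b₀, b₁, b₂] ∈ pats3 := by decide

/-- A hyperbolic line given by closure. -/
theorem fits_three {T : ℕ → Prop} {a b c : ℕ} (h1 : T a → T b → T c) (h2 : T a → T c → T b) (h3 : T b → T c → T a) :
    ∃ p ∈ pats3, Fits T [a, b, c] p := by
  classical
  refine ⟨[decide (T a), decide (T b), decide (T c)], pats3_spec _ _ _ ?_ ?_ ?_, ?_⟩
  · simpa using h1
  · simpa using h2
  · simpa using h3
  · intro x hx
    simp only [List.zip_cons_cons, List.zip_nil_left, List.mem_cons, List.not_mem_nil, or_false] at hx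
    rcases hx with rfl | rfl | rfl <;> simp

end CfsgLib.KnownB.TypeM23.Unique
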