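import Cfsg.Agent.Lib.KnownB.TypeM23Unique.Tree

/-!
Case distinctions for the members commuting with two others.
-/

set_option autoImplicit false
set_option maxRecDepth 100000

namespace CfsgLib.KnownB.TypeM23.Unique

open CfsgLib.KnownB.TypeM22.Unique (Tree)

/-- the fifth letter continues the path -/
def treeBZero : Tree :=
  .node [256, 1024, 1280, 1536, 1792] []

/-- from a path of six to a tree of type E6 -/
def treeTree : Tree :=
  .node [1, 4, 5, 6, 7] [.node [1, 20, 21, 22, 23] [.node [1, 256, 257, 258, 259] [.node [1, 1024, 1025, 1026, 1027] [.node [1, 64, 65] [.node [1, 1344, 1345] [.node [20, 1344, 1364, 1384, 1404] [.node [256, 1088, 1344, 1600, 1856] [.node [320, 1024, 1344, 1664, 1984] [.node [4, 1344, 1348] [.node [6, 1344, 1355] [.node [23, 1344, 1385] [.node [65, 1281, 1344] [.node [258, 1344, 1601] [.node [259, 1344, 1857] [.node [1026, 1344, 1987] [.node [1027, 1344, 1666] [.node [4, 16, 20, 24, 28] [.node [4, 1024, 1028, 1032, 1036] [.node [4, 256, 260] [.node [4,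 258, 262] [.node [4, 259, 263] [.node [4, 1281, 1285] [.node [4, 1345, 1349] [.node [4, 1355, 1359] [.node [4, 1384, 1388] [.node [4, 1400, 1404] [.node [4, 1600, 1608] [.node [4, 1601, 1609] [.node [4, 1664, 1672] [.node [4, 1666, 1674] [.node [4, 1856, 1868] [.node [4, 1857, 1869] [.node [4, 1984, 1996] [.node [4, 1987, 1999] [.node [22, 256, 278] [.node [24, 256, 308] [.node [28, 256, 292] [.node [256, 1029, 1285] [.node [256, 1032, 1544] [.node [256, 1036, 1804] [.node [256, 1092, 1348] [.node [256, 1093, 1349] [.node [256, 1096, 1608] [.node [256, 1097, 1609] [.node [256, 1100, 1868] [.node [256, 1101, 1869] [.node [256, 1160, 1672] [.node [256, 1162, 1674] [.node [256, 1228, 1996] [.node [256, 1355, 1867] [.node [256, 1359, 1615] [.node [256, 1384, 1896] [.node [256, 1388, 1644] [.node [256, 1400, 1912] [.node [20, 262, 274] [.node [20, 263, 275] [.node [20, 288, 308] [.node [20, 292, 304] [.node [20, 1029, 1041] [.node [20, 1032, 1052] [.node [20, 1036, 1048] [.node [20, 1092, 1104]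 [.node [20, 1093, 1105] [.node [20, 1096, 1116] [.node [20, 1097, 1117] [.node [20, 1100, 1112] [.node [20, 1160, 1180] [.node [20, 1162, 1182] [.node [20, 1228, 1240] [.node [20, 1544, 1588] [.node [20, 1609, 1653] [.node [20, 1616, 1644] [.node [20, 1674, 1718] [.node [20, 1804, 1828] [.node [20, 1867, 1891] [.node [20, 1868, 1892] [.node [20, 1869, 1893] [.node [20, 1872, 1912] [.node [20, 1999, 2023] [.node [17, 1024, 1041] [.node [80, 1024, 1104] [.node [81, 1024, 1105] [.node [416, 1024, 1872] [.node [496, 1024, 1616] [.node [1024, 1336, 1828] [.node [1024, 1464, 1892] [.node [64, 1048, 1112, 1176, 1240] [.node [64, 1052, 1116, 1180, 1244] [.node [64, 1336, 1400, 1464, 1528] [.node [64, 1544, 1608, 1672, 1736] [.node [64, 1804, 1868, 1932, 1996] [.node [6, 17, 23, 26, 28] [.node [6, 1891, 1893, 1896, 1902] [.node [7, 1601, 1606, 1608, 1615] [.node [17, 258, 275, 288, 305] [.node [17, 259, 274, 289, 304] [.node [65, 1052, 1117, 1182, 1247] [.node [65, 1588, 1653, 1718, 1783] [.node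 [65, 1828, 1893, 1958, 2023] [.node [289, 1345, 1907] [.node [1345, 1439, 1528] [.node [496, 1176, 1384, 1736, 1848] [.node [305, 1101, 1404, 1631, 1902] [.node [416, 1244, 1404, 1580, 1932] [.node [320, 1247, 1439, 1631, 1823] [.node [1348, 1591, 1958] [.node [1348, 1783, 1830] [.node [309, 1116, 1385, 1606, 1907] [.node [1, 16, 17, 18, 19] [.node [5, 18, 23, 24, 29] [.node [7, 18, 21, 27, 28] [.node [18, 81, 96] [.node [18, 1573, 1591] [.node [18, 1580, 1598] [.node [29, 76, 81] [.node [27, 1544, 1555, 1573, 1598] [.leaf [96, 256, 76, 1, 80, 1555]]]]]]]],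
   .node [4, 18, 22, 26, 30] [.node [18, 260, 278, 295, 309] [.node [19, 80, 113] [.node [30, 1793, 1823, 1830, 1848] [.node [30, 72, 113] [.node [30, 81, 104] [.leaf [104, 1793, 72, 1, 80, 295]]]]]]]]]]]]]]]]]]]]]]]]]]]]]]]]]]]]]]]]]]]]]]]]]]]]]]]]]]]]]]]]]]]]]]]]]]]]]]]]]]]]]]]]]]]]]]]]]]]]]]]]]]]]]]]]]]]]]

/-- the fifth letter continues the path -/
def treeB1 : Tree :=
  .node [1, 4, 5, 6, 7] [.node [1, 20, 21, 22, 23] [.node [1, 256, 257, 258, 259] [.node [1, 1024, 1025, 1026, 1027] [.node [1, 1280, 1281, 1282, 1283] [.node [4, 16, 20, 24, 28] [.node [4, 1024, 1028, 1032, 1036] [.node [4, 256, 260] [.node [4, 257, 261] [.node [4, 259, 263] [.node [4, 1281, 1285] [.node [4, 1282, 1286] [.node [4, 1408, 1412] [.node [4, 1472, 1476] [.node [256, 1024, 1280, 1536, 1792] [.node [256, 1025, 1281, 1537, 1793] [.node [22, 256, 278] [.node [24, 256, 308] [.node [256, 1029, 1285] [.node [256, 1030, 1286] [.node [256, 1156, 1412] [.node [256, 1220, 1476] [.node [20, 1281, 1301, 1321, 1341] [.node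 [20, 260, 272] [.node [20, 263, 275] [.node [20, 288, 308] [.node [20, 1027, 1047] [.node [20, 1029, 1041] [.node [20, 1030, 1042] [.node [20, 1156, 1168] [.node [20, 1220, 1232] [.node [20, 1536, 1596] [.node [258, 1024, 1282, 1539, 1793] [.node [259, 1024, 1283, 1537, 1794] [.node [261, 1024, 1285, 1546, 1807] [.node [17, 1024, 1041] [.node [18, 1024, 1042] [.node [96, 1024, 1232] [.node [112, 1024, 1168] [.node [275, 1024, 1299] [.node [288, 1024, 1808] [.node [1024, 1321, 1598] [.node [278, 1047, 1281, 1596, 1834] [.node [307, 1281, 1808] [.node [320, 1410, 1794] [.node [340, 1410, 1834] [.node [6, 17, 23, 26, 28] [.node [18, 258, 272, 289, 307] [.node [258, 1041, 1299, 1554, 1808] [.node [24, 1546, 1554, 1574, 1598] [.node [68, 260, 320] [.node [1, 64, 65] [.node [64, 1028, 1092, 1156, 1220] [.node [64, 1280, 1344, 1408, 1472] [.node [26, 64, 117] [.node [462, 1092, 1539] [.node [443, 1344, 1574] [.node [117, 289, 340, 443, 462] []]]]]],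
   .node [4, 64, 68, 72, 76] [.node [16, 64, 80, 96, 112] [.node [72, 1574, 1762] [.node [80, 1554, 1762] []]]]]]]]]]]]]]]]]]]]]]]]]]]]]]]]]]]]]]]]]]]]]]]]]]]]]]]]

/-- the fifth letter continues the path -/
def treeB2 : Tree :=
  .node [1, 4, 5, 6, 7] [.node [1, 20, 21, 22, 23] [.node [1, 256, 257, 258, 259] [.node [1, 1024, 1025, 1026, 1027] [.node [1, 1280, 1281, 1282, 1283] [.node [4, 16, 20, 24, 28] [.node [4, 1024, 1028, 1032, 1036] [.node [4, 256, 260] [.node [4, 258, 262] [.node [4, 259, 263] [.node [4, 1281, 1285] [.node [4, 1282, 1286] [.node [4, 1344, 1348] [.node [4, 1472, 1476] [.node [256, 1024, 1280, 1536, 1792] [.node [256, 1026, 1282, 1538, 1794] [.node [21, 256, 277] [.node [28, 256, 292] [.node [256, 1029, 1285] [.node [256, 1030, 1286] [.node [256, 1092, 1348] [.node [256, 1220, 1476] [.node [20, 1282, 1302, 1322, 1342] [.node [20, 260, 272] [.node [20, 263, 275] [.node [20, 292, 304] [.node [20, 1027, 1047] [.node [20, 1029, 1041] [.node [20, 1030, 1042] [.node [20,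 1092, 1104] [.node [20, 1220, 1232] [.node [20, 1792, 1832] [.node [259, 1024, 1283, 1537, 1794] [.node [262, 1024, 1286, 1547, 1805] [.node [18, 1024, 1042] [.node [80, 1024, 1104] [.node [96, 1024, 1232] [.node [272, 1024, 1296] [.node [1024, 1322, 1599] [.node [277, 1047, 1282, 1597, 1832] [.node [304, 1282, 1810] [.node [384, 1345, 1537] [.node [404, 1345, 1597] [.node [5, 18, 23, 24, 29] [.node [6, 16, 22, 27, 29] [.node [18, 257, 275, 290, 304] [.node [257, 1041, 1296, 1555, 1810] [.node [24, 1547, 1555, 1575, 1599] [.node [76, 260, 384] [.node [1, 64, 65] [.node [64, 1028, 1092, 1156, 1220] [.node [64, 1280, 1344, 1408, 1472] [.node [27, 64, 109] [.node [335, 1156, 1537] [.node [505, 1408, 1575] [.node [109, 290, 335, 404, 505] []]]]]],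
   .node [4, 64, 68, 72, 76] [.node [16, 64, 80, 96, 112] [.node [68, 1575, 1635] [.node [112, 1555, 1635] []]]]]]]]]]]]]]]]]]]]]]]]]]]]]]]]]]]]]]]]]]]]]]]]]]]]]]

/-- the fifth letter continues the path -/
def treeB3 : Tree :=
  .node [1, 4, 5, 6, 7] [.node [1, 20, 21, 22, 23] [.node [1, 256, 257, 258, 259] [.node [1, 1024, 1025, 1026, 1027] [.node [1, 1280, 1281, 1282, 1283] [.node [4, 16, 20, 24, 28] [.node [4, 1024, 1028, 1032, 1036] [.node [4, 256, 260] [.node [4, 258, 262] [.node [4, 259, 263] [.node [4, 1281, 1285] [.node [4, 1283, 1287] [.node [4, 1344, 1348] [.node [4, 1408, 1412] [.node [256, 1024, 1280, 1536, 1792] [.node [256, 1027, 1283, 1539, 1795] [.node [21, 256, 277] [.node [24, 256, 308] [.node [256, 1029, 1285] [.node [256, 1031, 1287] [.node [256, 1092, 1348] [.node [256, 1156, 1412] [.node [20, 1283, 1303, 1323, 1343] [.node [20, 260, 272] [.node [20, 262, 274] [.node [20, 288, 308] [.node [20, 1026, 1046] [.node [20, 1029, 1041] [.node [20, 1031, 1043] [.node [20,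 1092, 1104] [.node [20, 1156, 1168] [.node [20, 1536, 1596] [.node [257, 1024, 1281, 1538, 1795] [.node [258, 1024, 1282, 1539, 1793] [.node [263, 1024, 1287, 1545, 1806] [.node [17, 1024, 1041] [.node [19, 1024, 1043] [.node [80, 1024, 1104] [.node [112, 1024, 1168] [.node [274, 1024, 1298] [.node [288, 1024, 1808] [.node [1024, 1323, 1597] [.node [277, 1046, 1283, 1596, 1833] [.node [306, 1283, 1808] [.node [448, 1345, 1793] [.node [468, 1345, 1833] [.node [5, 19, 22, 25, 28] [.node [17, 257, 272, 291, 306] [.node [257, 1043, 1298, 1553, 1808] [.node [24, 1545, 1553, 1573, 1597] [.node [72, 260, 448] [.node [260, 1581, 1833] [.node [1, 64, 65] [.node [64, 1028, 1092, 1156, 1220] [.node [64, 1280, 1344, 1408, 1472] [.node [25, 64, 89] [.node [397, 1220, 1538] [.node [378, 1472, 1573] [.node [89, 291, 378, 397, 468] []]]]]],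
   .node [4, 64, 68, 72, 76] [.node [16, 64, 80, 96, 112] [.node [64, 1581, 1645] [.node [68, 1645, 1697] [.node [96, 1553, 1697] []]]]]]]]]]]]]]]]]]]]]]]]]]]]]]]]]]]]]]]]]]]]]]]]]]]]]]]]]]

/-- the false continuations are outside -/
def treeOff1 : Tree :=
  .node [1, 4, 5, 6, 7] [.node [1, 20, 21, 22, 23] [.node [1, 256, 257, 258, 259] [.node [1, 1024, 1025, 1026, 1027] [.node [1, 1280, 1281, 1282, 1283] [.node [4, 16, 20, 24, 28] [.node [4, 1024, 1028, 1032, 1036] [.node [4, 256, 260] [.node [4, 257, 261] [.node [4, 259, 263] [.node [4, 1281, 1285] [.node [4, 1282, 1286] [.node [4, 1283, 1287] [.node [256, 1024, 1280, 1536, 1792] [.node [256, 1025, 1281, 1537, 1793] [.node [22, 256, 278] [.node [23, 256, 279] [.node [24, 256, 308] [.node [28, 256, 292] [.node [256, 1029, 1285] [.node [256, 1030, 1286] [.node [256, 1031, 1287] [.node [256, 1036, 1804] [.node [20, 1281, 1301, 1321, 1341] [.node [20, 1285, 1297, 1325, 1337] [.node [20, 260, 272] [.node [20, 263, 275] [.node [20, 288, 308]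 [.node [20, 292, 304] [.node [20, 1024, 1044] [.node [20, 1026, 1046] [.node [20, 1027, 1047] [.node [20, 1029, 1041] [.node [20, 1030, 1042] [.node [20, 1031, 1043] [.node [20, 1032, 1052] [.node [20, 1536, 1596] [.node [20, 1537, 1597] [.node [20, 1792, 1832] [.node [20, 1793, 1833] [.node [20, 1804, 1828] [.node [258, 1024, 1282, 1539, 1793] [.node [259, 1024, 1283, 1537, 1794] [.node [261, 1024, 1285, 1546, 1807] [.node [17, 1024, 1041] [.node [18, 1024, 1042] [.node [19, 1024, 1043] [.node [272, 1024, 1296] [.node [275, 1024, 1299] [.node [278, 1024, 1302] [.node [288, 1024, 1808] [.node [1024, 1320, 1596] [.node [1024, 1321, 1598] [.node [1024, 1323, 1597] [.node [1024, 1325, 1590] [.node [1024, 1336, 1828] [.node [1024, 1337, 1831] [.node [1024, 1341, 1835] [.node [1024, 1342, 1833] [.node [23, 1281, 1302, 1320, 1343] [.node [278, 1047, 1281, 1596, 1834] [.node [279, 1046, 1281, 1599, 1832] [.node [288, 1281, 1553] [.node [304, 1281, 1809] [.node [307, 1281, 1808] [.node [5, 19,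 22, 25, 28] [.node [5, 1026, 1031, 1032, 1037] [.node [5, 1027, 1030, 1033, 1036] [.node [5, 1043, 1046, 1049, 1052] [.node [5, 1338, 1343] [.node [6, 17, 23, 26, 28] [.node [6, 18, 20, 25, 31] [.node [6, 1024, 1030, 1035, 1037] [.node [6, 1027, 1029, 1032, 1038] [.node [6, 1041, 1047, 1050, 1052] [.node [6, 1042, 1044, 1049, 1055] [.node [22, 1285, 1299, 1326, 1336] [.node [22, 1286, 1296, 1325, 1339] [.node [17, 258, 275, 288, 305] [.node [18, 258, 272, 289, 307] [.node [258, 1041, 1299, 1554, 1808] [.node [258, 1042, 1296, 1553, 1811] [.node [258, 1055, 1822] [.node [258, 1326, 1583] [.node [259, 1050, 1563] [.node [259, 1339, 1850] [.node [260, 1026, 1286, 1546, 1806] [.node [263, 1026, 1285, 1547, 1804] [.node [24, 1539, 1563, 1583, 1591] [.node [24, 1546, 1554, 1574, 1598] [.node [28, 1794, 1822, 1830, 1850] [.node [28, 1807, 1811, 1835, 1847] [.node [305, 1032, 1337, 1562, 1835] [.node [309, 1032, 1341, 1554, 1831] [.node [289, 1036, 1325, 1598, 1823] [.node [293, 1036, 1321, 1590,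 1811] [.node [260, 1582, 1834] [.node [1, 64, 65] [.node [17, 64, 81] [.node [26, 64, 117] [.node [31, 64, 101] [.node [64, 289, 353] [.node [64, 293, 357] [.node [64, 309, 373] [.node [64, 1029, 1093] [.node [64, 1035, 1227] [.node [64, 1038, 1166] [.node [64, 1539, 1731] [.node [64, 1794, 1922] [.node [17, 65, 80] [.node [65, 1539, 1728] [.node [65, 1794, 1920] [.node [81, 1035, 1193] [.node [81, 1038, 1277] [.node [81, 1326, 1501] [.node [81, 1339, 1433] [.node [81, 1554, 1761] [.node [81, 1562, 1769] [.node [81, 1811, 1969] [.node [81, 1823, 1981] [.node [117, 1574, 1724] [.node [117, 1806, 2017] [.node [117, 1830, 1993] [.node [101, 1547, 1713] [.node [101, 1591, 1677] [.node [101, 1847, 2024] [.node [353, 1481, 1562] [.node [357, 1421, 1847] [.node [357, 1562, 1919] [.node [373, 1642, 1823] [.node [393, 1093, 1794] [.node [461, 1093, 1539] [.node [461, 1227, 1286, 1677, 1856] [.node [393, 1166, 1287, 1600, 1993] [.node [80, 1325, 1405, 1421, 1501] [.node [80, 1337, 1385, 1433, 1481]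 [.node [80, 1553, 1601, 1713, 1761] [.node [80, 1809, 1857, 1969, 2017] [.node [386, 1193, 1323, 1642, 2024] [.node [448, 1193, 1385, 1769, 1833] [.node [384, 1277, 1405, 1597, 1981] [.node [451, 1277, 1342, 1724, 1919] [.leaf [384, 1856, 1728, 386, 1857, 1731, 448, 1920, 1600, 451, 1922, 1601]]]]]]]]]]]]]]]]]]]]]]]]]]]]]]]]]]]]]]]]]]]]],
   .node [20, 64, 84, 104, 124] [.node [64, 256, 320, 384, 448] [.node [17, 64, 81] [.node [64, 1338, 1466] [.node [64, 1539, 1731] [.node [64, 1835, 2027] [.node [65, 1049, 1112] [.node [84, 1599, 1643, 1687, 1731] [.node [84, 1582, 1658] [.node [320, 1274, 1466, 1658, 1850] [.node [384, 1195, 1323, 1643, 2027] [.node [81, 1033, 1112, 1195, 1274] []]]]]]]]]]]]]]]]]]]]]]]]]]]]]]]]]]]]]]]]]]]]]]]]]]]]]]]]]]]]]]]]]]]]]]]]]]]]]]]]]]]]]]]]]]]]]]]]]]]]]]]]]]]]]]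

/-- the false continuations are outside -/
def treeOff2 : Tree :=
  .node [1, 4, 5, 6, 7] [.node [1, 20, 21, 22, 23] [.node [1, 256, 257, 258, 259] [.node [1, 1024, 1025, 1026, 1027] [.node [1, 1280, 1281, 1282, 1283] [.node [4, 16, 20, 24, 28] [.node [4, 1024, 1028, 1032, 1036] [.node [4, 256, 260] [.node [4, 258, 262] [.node [4, 259, 263] [.node [4, 1281, 1285] [.node [4, 1282, 1286] [.node [4, 1283, 1287] [.node [256, 1024, 1280, 1536, 1792] [.node [256, 1026, 1282, 1538, 1794] [.node [21, 256, 277] [.node [24, 256, 308] [.node [28, 256, 292] [.node [256, 1029, 1285] [.node [256, 1030, 1286] [.node [256, 1032, 1544] [.node [20, 1282, 1302, 1322, 1342] [.node [20, 1286, 1298, 1326, 1338] [.node [20, 260, 272] [.node [20, 263, 275] [.node [20, 288, 308] [.node [20, 292, 304] [.node [20, 1026, 1046] [.node [20, 1027, 1047] [.node [20, 1028, 1040] [.node [20, 1029, 1041] [.node [20, 1030, 1042] [.node [20, 1036, 1048] [.node [20, 1538, 1598] [.node [20, 1544, 1588] [.node [20, 1792, 1832]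 [.node [20, 1794, 1834] [.node [257, 1024, 1281, 1538, 1795] [.node [259, 1024, 1283, 1537, 1794] [.node [262, 1024, 1286, 1547, 1805] [.node [17, 1024, 1041] [.node [18, 1024, 1042] [.node [272, 1024, 1296] [.node [275, 1024, 1299] [.node [277, 1024, 1301] [.node [304, 1024, 1552] [.node [1024, 1321, 1598] [.node [1024, 1322, 1599] [.node [1024, 1324, 1588] [.node [1024, 1326, 1591] [.node [1024, 1338, 1829] [.node [1024, 1340, 1832] [.node [1024, 1342, 1833] [.node [1024, 1343, 1834] [.node [23, 1282, 1301, 1323, 1340] [.node [288, 1282, 1554] [.node [291, 1282, 1552] [.node [304, 1282, 1810] [.node [1049, 1282, 1588] [.node [5, 18, 23, 24, 29] [.node [5, 1027, 1030, 1033, 1036] [.node [5, 1042, 1047, 1048, 1053] [.node [6, 16, 22, 27, 29] [.node [6, 1026, 1028, 1033, 1039] [.node [6, 1040, 1046, 1051, 1053] [.node [21, 1285, 1296, 1327, 1338] [.node [21, 1286, 1299, 1324, 1337] [.node [17, 257, 272, 291, 306] [.node [18, 257, 275, 290, 304] [.node [257, 1041, 1296, 1555, 1810] [.node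 [257, 1042, 1299, 1552, 1809] [.node [257, 1051, 1561] [.node [257, 1337, 1851] [.node [259, 1053, 1823] [.node [259, 1327, 1581] [.node [260, 1025, 1285, 1545, 1805] [.node [263, 1025, 1286, 1544, 1807] [.node [24, 1537, 1561, 1581, 1589] [.node [24, 1547, 1555, 1575, 1599] [.node [28, 1795, 1823, 1831, 1851] [.node [28, 1805, 1809, 1833, 1845] [.node [306, 1032, 1338, 1563, 1833] [.node [310, 1032, 1342, 1555, 1829] [.node [290, 1036, 1326, 1599, 1821] [.node [294, 1036, 1322, 1591, 1809] [.node [1, 64, 65] [.node [18, 64, 113] [.node [27, 64, 109] [.node [29, 64, 93] [.node [64, 290, 418] [.node [64, 294, 422] [.node [64, 310, 438] [.node [64, 1030, 1158] [.node [64, 1033, 1097] [.node [64, 1039, 1231] [.node [64, 1537, 1601] [.node [64, 1795, 1987] [.node [18, 65, 112] [.node [65, 1537, 1600] [.node [65, 1795, 1984] [.node [113, 1033, 1258] [.node [113, 1039, 1150] [.node [113, 1327, 1374] [.node [113, 1337, 1498] [.node [113, 1555, 1634] [.node [113, 1563, 1642] [.node [113, 1809,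 2034] [.node [113, 1821, 2046] [.node [109, 1575, 1788] [.node [109, 1807, 1890] [.node [109, 1831, 1866] [.node [93, 1545, 1778] [.node [93, 1589, 1742] [.node [93, 1845, 1896] [.node [418, 1354, 1563] [.node [422, 1486, 1845] [.node [422, 1563, 1981] [.node [438, 1707, 1821] [.node [334, 1158, 1537] [.node [458, 1158, 1795] [.node [334, 1097, 1287, 1742, 1920] [.node [458, 1231, 1285, 1664, 1866] [.node [112, 1326, 1374, 1470, 1486] [.node [112, 1338, 1354, 1450, 1498] [.node [112, 1554, 1634, 1666, 1778] [.node [112, 1810, 1890, 1922, 2034] [.node [320, 1258, 1450, 1642, 1834] [.node [451, 1258, 1321, 1707, 1896] [.node [321, 1150, 1343, 1788, 1981] [.node [448, 1150, 1470, 1598, 2046] [.leaf [320, 1984, 1664, 321, 1987, 1666, 448, 1920, 1600, 451, 1922, 1601]]]]]]]]]]]]]]]]]]]]]]]]]]]]]]]]]]]]]]]]]]]]],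
   .node [20, 64, 84, 104, 124] [.node [64, 256, 320, 384, 448] [.node [17, 64, 81] [.node [64, 1323, 1515] [.node [65, 1049, 1112] [.node [84, 1030, 1274] [.node [320, 1195, 1515] [.node [81, 1033, 1112, 1195, 1274] []]]]]]]]]]]]]]]]]]]]]]]]]]]]]]]]]]]]]]]]]]]]]]]]]]]]]]]]]]]]]]]]]]]]]]]]]]]]]]]]]]]]]]]]]]]]]]

/-- the false continuations are outside -/
def treeOff3 : Tree :=
  .node [1, 4, 5, 6, 7] [.node [1, 20, 21, 22, 23] [.node [1, 256, 257, 258, 259] [.node [1, 1024, 1025, 1026, 1027] [.node [1, 1280, 1281, 1282, 1283] [.node [4, 16, 20, 24, 28] [.node [4, 1024, 1028, 1032, 1036] [.node [4, 256, 260] [.node [4, 258, 262] [.node [4, 259, 263] [.node [4, 1281, 1285] [.node [4, 1282, 1286] [.node [4, 1283, 1287] [.node [256, 1024, 1280, 1536, 1792] [.node [256, 1027, 1283, 1539, 1795] [.node [22, 256, 278] [.node [24, 256, 308] [.node [28, 256, 292] [.node [256, 1029, 1285] [.node [256, 1031, 1287] [.node [256, 1036, 1804] [.node [20, 1283, 1303, 1323, 1343] [.node [20, 1287, 1299,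 1327, 1339] [.node [20, 260, 272] [.node [20, 262, 274] [.node [20, 288, 308] [.node [20, 292, 304] [.node [20, 1025, 1045] [.node [20, 1026, 1046] [.node [20, 1029, 1041] [.node [20, 1031, 1043] [.node [20, 1032, 1052] [.node [20, 1036, 1048] [.node [20, 1539, 1599] [.node [20, 1792, 1832] [.node [20, 1795, 1835] [.node [20, 1804, 1828] [.node [7, 1024, 1031, 1033, 1038] [.node [257, 1024, 1281, 1538, 1795] [.node [258, 1024, 1282, 1539, 1793] [.node [263, 1024, 1287, 1545, 1806] [.node [17, 1024, 1041] [.node [19, 1024, 1043] [.node [272, 1024, 1296] [.node [274, 1024, 1298] [.node [288, 1024, 1808] [.node [1024, 1322, 1599] [.node [1024, 1323, 1597] [.node [1024, 1327, 1589] [.node [1024, 1336, 1828] [.node [1024, 1339, 1830] [.node [1024, 1341, 1835] [.node [1024, 1343, 1834] [.node [278, 1045, 1283, 1598, 1832] [.node [288, 1283, 1555] [.node [304, 1283, 1811] [.node [306, 1283, 1808] [.node [5, 19, 22, 25, 28] [.node [5, 1026, 1031, 1032, 1037] [.node [5, 1043, 1046, 1049, 1052]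 [.node [6, 19, 21, 24, 30] [.node [6, 1025, 1031, 1034, 1036] [.node [6, 1043, 1045, 1048, 1054] [.node [21, 1285, 1296, 1327, 1338] [.node [21, 1287, 1298, 1325, 1336] [.node [17, 257, 272, 291, 306] [.node [19, 257, 274, 288, 307] [.node [257, 1041, 1296, 1555, 1810] [.node [257, 1043, 1298, 1553, 1808] [.node [257, 1054, 1821] [.node [257, 1325, 1582] [.node [258, 1049, 1562] [.node [258, 1338, 1849] [.node [260, 1025, 1285, 1545, 1805] [.node [262, 1025, 1287, 1546, 1804] [.node [24, 1538, 1562, 1582, 1590] [.node [24, 1545, 1553, 1573, 1597] [.node [28, 1793, 1821, 1829, 1849] [.node [28, 1806, 1810, 1834, 1846] [.node [307, 1032, 1339, 1561, 1834] [.node [311, 1032, 1343, 1553, 1830] [.node [291, 1036, 1327, 1597, 1822] [.node [295, 1036, 1323, 1589, 1810] [.node [260, 1598, 1850] [.node [1, 64, 65] [.node [19, 64, 97] [.node [25, 64, 89] [.node [30, 64, 121] [.node [64, 291, 483] [.node [64, 295, 487] [.node [64, 311, 503] [.node [64, 1031, 1223] [.node [64, 1034, 1162] [.node [64,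 1037, 1101] [.node [64, 1538, 1666] [.node [64, 1793, 1857] [.node [19, 65, 96] [.node [65, 1538, 1664] [.node [65, 1793, 1856] [.node [97, 1034, 1131] [.node [97, 1037, 1215] [.node [97, 1325, 1439] [.node [97, 1338, 1371] [.node [97, 1553, 1699] [.node [97, 1561, 1707] [.node [97, 1810, 1907] [.node [97, 1822, 1919] [.node [89, 1573, 1660] [.node [89, 1805, 1955] [.node [89, 1829, 1931] [.node [121, 1546, 1651] [.node [121, 1590, 1615] [.node [121, 1846, 1960] [.node [483, 1419, 1561] [.node [487, 1359, 1846] [.node [487, 1561, 2046] [.node [503, 1769, 1822] [.node [331, 1223, 1793] [.node [399, 1223, 1538] [.node [399, 1162, 1285, 1615, 1984] [.node [331, 1101, 1286, 1728, 1931] [.node [96, 1327, 1359, 1439, 1535] [.node [96, 1339, 1371, 1419, 1515] [.node [96, 1555, 1651, 1699, 1731] [.node [96, 1811, 1907, 1955, 1987] [.node [321, 1131, 1322, 1769, 1960] [.node [384, 1131, 1515, 1707, 1835] [.node [320, 1215, 1535, 1599, 1919] [.node [386, 1215, 1341, 1660, 2046] [.leaf [320, 1984,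 1664, 321, 1987, 1666, 384, 1856, 1728, 386, 1857, 1731]]]]]]]]]]]]]]]]]]]]]]]]]]]]]]]]]]]]]]]]]]]]],
   .node [4, 64, 68, 72, 76] [.node [20, 64, 84, 104, 124] [.node [64, 256, 320, 384, 448] [.node [64, 1024, 1088, 1152, 1216] [.node [17, 64, 81] [.node [64, 1046, 1174] [.node [64, 1338, 1466] [.node [64, 1590, 1718] [.node [64, 1597, 1661] [.node [65, 1049, 1112] [.node [68, 1598, 1658, 1718, 1778] [.node [84, 1793, 2045] [.node [320, 1274, 1466, 1658, 1850] [.node [384, 1213, 1341, 1661, 2045] [.node [22, 1152, 1174, 1195, 1213] [.node [81, 1033, 1112, 1195, 1274] []]]]]]]]]]]]]]]]]]]]]]]]]]]]]]]]]]]]]]]]]]]]]]]]]]]]]]]]]]]]]]]]]]]]]]]]]]]]]]]]]]]]]]]]]]]]]]]]]]]]]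

/-- one of the two arms extends -/
def treeArms : Tree :=
  .node [4, 16, 20, 24, 28] [.node [4, 256, 260] [.node [20, 1344, 1364, 1384, 1404] [.node [28, 1344, 1400] [.node [260, 1092, 1344] [.node [5, 256, 261] [.node [20, 256, 276] [.node [28, 256, 292] [.node [256, 1400, 1912] [.node [20, 260, 272] [.node [20, 261, 273] [.node [20, 292, 304] [.node [20, 1092, 1104] [.node [20, 1872, 1912] [.node [260, 1104, 1364, 1624, 1884] [.node [1, 4, 5, 6, 7] [.node [6, 18, 20, 25, 31] [.node [6, 256, 262] [.node [6, 272, 278] [.node [6, 273, 279] [.node [18, 260, 278, 295, 309] [.node [17, 262, 279, 292, 309] []]]]]],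
   .node [6, 258, 260] [.node [6, 272, 278] [.node [6, 274, 276] [.node [6, 1344, 1355] [.node [7, 259, 260] [.node [7, 1872, 1879] [.node [258, 1344, 1601] [.node [278, 1130, 1404, 1601, 1879] [.node [278, 1092, 1913] [.node [17, 259, 274, 289, 304] [.node [289, 1130, 1355, 1624, 1913] []]]]]]]]]]]]]]]]]]]]]]]]]]]

/-- a path of seven is impossible -/
def treeSeven : Tree :=
  .node [1, 4, 5, 6, 7] [.node [1, 20, 21, 22, 23] [.node [1, 256, 257, 258, 259] [.node [1, 1024, 1025, 1026, 1027] [.node [1, 64, 65] [.node [1, 1344, 1345] [.node [20, 1344, 1364, 1384, 1404] [.node [64, 1280, 1344, 1408, 1472] [.node [256, 1088, 1344, 1600, 1856] [.node [320, 1024, 1344, 1664, 1984] [.node [1027, 1344, 1666] [.node [4, 64, 68, 72, 76] [.node [4, 1024, 1028, 1032, 1036] [.node [4, 1384, 1388] [.node [4, 1400, 1404] [.node [4, 1472, 1476] [.node [4, 1600, 1608] [.node [4, 1664, 1672] [.node [4, 1666, 1674] [.node [4, 1856, 1868] [.node [4, 1984, 1996] [.node [256, 1024, 1280, 1536, 1792] [.node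 [256, 1032, 1544] [.node [256, 1036, 1804] [.node [256, 1096, 1608] [.node [256, 1162, 1674] [.node [256, 1220, 1476] [.node [256, 1384, 1896] [.node [256, 1404, 1660] [.node [20, 1162, 1182] [.node [20, 1536, 1596] [.node [20, 1544, 1588] [.node [20, 1608, 1652] [.node [20, 1672, 1716] [.node [20, 1792, 1832] [.node [20, 1804, 1828] [.node [20, 1868, 1892] [.node [20, 1996, 2020] [.node [72, 1024, 1096, 1164, 1220] [.node [121, 1024, 1182] [.node [1024, 1320, 1596] [.node [1024, 1324, 1588] [.node [1024, 1336, 1828] [.node [1024, 1340, 1832] [.node [1024, 1464, 1892] [.node [1024, 1468, 1896] [.node [1024, 1512, 1660] [.node [1024, 1516, 1652] [.node [64, 1320, 1384, 1448, 1512] [.node [64, 1324, 1388, 1452, 1516] [.node [64, 1336, 1400, 1464, 1528] [.node [64, 1340, 1404, 1468, 1532] [.node [64, 1588, 1652, 1716, 1780] [.node [64, 1828, 1892, 1956, 2020] [.node [30, 64, 121] [.node [5, 1447, 1448] [.node [5, 1522, 1528] [.node [6, 1525, 1528] [.node [7, 1522, 1525, 1531, 1532] [.node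 [7, 1445, 1452] [.node [7, 1780, 1786] [.node [23, 1164, 1189] [.node [257, 1273, 1528] [.node [258, 1189, 1447, 1702, 1956] [.node [258, 1273, 1531, 1786, 2040] [.node [350, 1025, 1375, 1702, 2040] [.node [65, 1382, 1445] [.node [30, 1345, 1375, 1382, 1400] []]]]]]]]]]]]]]]]]]]]]]]]]]]]]]]]]]]]]]]]]]]]]]]]]]]]]]]]]]]]]]]]]]]]

end CfsgLib.KnownB.TypeM23.Unique
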